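import Mathlib
import Cfsg.Agent.Lib.PrimeParts.Basic
import Cfsg.Agent.Lib.SelfNormNonabelian.Basic

/-!
Groups whose two largest class sizes `m > n > 1` are coprime.

Elementary argument: if `|G : C(u)|` and `|G : C(w)|` are coprime then `K_u K_w` is one class; if
moreover `|K_{uw}| = |K_w|` then `u` is central modulo a normal subgroup of order dividing `|K_w|`
that centralises `u`.
-/

set_option autoImplicit false
set_option linter.style.haveILetI false
set_option linter.unusedSectionVars false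

namespace Cfsg.Agent.ClassSize.CoprimeTop

open Subgroup
open scoped Pointwise

variable {G : Type*} [Group G] [Finite G]

/-- The centraliser of `g`. -/
def cent (g : G) : Subgroup G := centralizer ({g} : Set G)

/-- The class size of `g`. -/
noncomputable def cl (g : G) : ℕ := (cent g).index

/-- The class of `g`. -/
def kl (g : G) : Set G := {v | ∃ h, h * g * h⁻¹ = v}

theorem mem_cent {g v : G} : v ∈ cent g ↔ g * v = v * g := by
  rw [cent, mem_centralizer_singleton_iff]
  exact eq_comm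

theorem cent_comm {g v : G} : v ∈ cent g ↔ g ∈ cent v := by rw [mem_cent, mem_cent, eq_comm]

theorem self_mem_cent (g : G) : g ∈ cent g := mem_cent.2 rfl

theorem center_le_cent (g : G) : center G ≤ cent g := fun _ hv => mem_cent.2 (mem_center_iff.1 hv g)

theorem cl_eq_one {g : G} : cl g = 1 ↔ g ∈ center G := by
  rw [cl, index_eq_one, mem_center_iff]
  refine ⟨fun h v => (mem_cent.1 (h.symm ▸ mem_top v)).symm, fun h => eq_top_iff.2 fun v _ =>
    mem_cent.2 (h v).symm⟩

theorem cl_pos (g : G) : 0 < cl g := Nat.pos_of_ne_zero index_ne_zero_of_finite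

theorem cl_dvd {a b : G} (h : cent a ≤ cent b) : cl b ∣ cl a := index_dvd_of_le h

theorem eq_of_le_of_cl {a b : G} (h : cent a ≤ cent b) (he : cl a ≤ cl b) : cent a = cent b := by
  refine eq_of_le_of_card_ge h ?_
  have h1 := card_mul_index (cent a)
  have h2 := card_mul_index (cent b)
  rw [← h2] at h1
  by_contra hlt
  have := Nat.mul_lt_mul_of_lt_of_le (not_le.1 hlt) he (cl_pos b)
  simp only [cl] at this
  omega

theorem cent_le_of_mem_zpowers {a b : G} (h : b ∈ zpowers a) : cent a ≤ cent b := fun v hv => by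
  obtain ⟨i, rfl⟩ := mem_zpowers_iff.1 h
  exact mem_cent.2 ((show Commute a v from mem_cent.1 hv).zpow_left i).eq

theorem cent_mul_coprime {a b : G} (hab : a * b = b * a) (hco : (orderOf a).Coprime (orderOf b)) :
    cent (a * b) = cent a ⊓ cent b := by
  obtain ⟨e, he1, he2⟩ := Nat.chineseRemainder hco 1 0
  have hc : Commute a b := hab
  have ha : a ∈ zpowers (a * b) := by
    refine mem_zpowers_iff.2 ⟨(e : ℤ), ?_⟩
    rw [zpow_natCast, hc.mul_pow, pow_eq_pow_iff_modEq.2 he1, pow_eq_pow_iff_modEq.2 he2]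
    simp
  have hb : b ∈ zpowers (a * b) := by
    have h := mul_mem (inv_mem ha) (mem_zpowers (a * b))
    rwa [inv_mul_cancel_left] at h
  refine le_antisymm (le_inf (cent_le_of_mem_zpowers ha) (cent_le_of_mem_zpowers hb)) fun v hv => ?_
  exact mem_cent.2 ((show Commute a v from mem_cent.1 (mem_inf.1 hv).1).mul_left
    (mem_cent.1 (mem_inf.1 hv).2)).eq

theorem cent_conj_mem {g v h : G} : v ∈ cent (h * g * h⁻¹) ↔ h⁻¹ * v * h ∈ cent g := by
  rw [mem_cent, mem_cent]
  constructor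
  · intro e
    calc g * (h⁻¹ * v * h) = h⁻¹ * ((h * g * h⁻¹) * v) * h := by group
      _ = h⁻¹ * (v * (h * g * h⁻¹)) * h := by rw [e]
      _ = h⁻¹ * v * h * g := by group
  · intro e
    calc h * g * h⁻¹ * v = h * (g * (h⁻¹ * v * h)) * h⁻¹ := by group
      _ = h * ((h⁻¹ * v * h) * g) * h⁻¹ := by rw [e]
      _ = v * (h * g * h⁻¹) := by group

theorem cl_conj (g h : G) : cl (h * g * h⁻¹) = cl g := by
  have e : cent (h * g * h⁻¹) = (cent g).map (MulAut.conj h).toMonoidHom := by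
    ext v
    rw [cent_conj_mem, mem_map_equiv, MulAut.conj_symm_apply]
  rw [cl, cl, e]
  exact index_map_equiv (cent g) (MulAut.conj h)

theorem card_kl (g : G) : Nat.card (kl g) = cl g := by
  have e : kl g = (ConjClasses.mk g).carrier := by
    ext v
    rw [ConjClasses.mem_carrier_iff_mk_eq, ConjClasses.mk_eq_mk_iff_isConj, isConj_comm, isConj_iff]
    rfl
  rw [e, Nat.card_coe_set_eq, Cfsg.Agent.PrimeParts.ncard_carrier]
  rfl

theorem index_inf_of_coprime {A B : Subgroup G} (hco : A.index.Coprime B.index) :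
    (A ⊓ B).index = A.index * B.index :=
  le_antisymm index_inf_le (Nat.le_of_dvd (Nat.pos_of_ne_zero index_ne_zero_of_finite)
    (hco.mul_dvd_of_dvd_of_dvd (index_dvd_of_le inf_le_left) (index_dvd_of_le inf_le_right)))

theorem exists_mul_of_coprime {A B : Subgroup G} (hco : A.index.Coprime B.index) (g : G) :
    ∃ a ∈ A, ∃ b ∈ B, g = a * b := by
  have hrel : A.relIndex B = A.index := by
    have h := relIndex_mul_index (inf_le_right : A ⊓ B ≤ B)
    rw [index_inf_of_coprime hco, inf_relIndex_right] at h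
    exact Nat.eq_of_mul_eq_mul_right (Nat.pos_of_ne_zero index_ne_zero_of_finite) h
  let f : ↥B ⧸ A.subgroupOf B → G ⧸ A := fun q => ((q.out : B) : G)
  have hf : Function.Injective f := by
    intro q q' h
    rw [← QuotientGroup.out_eq' q, ← QuotientGroup.out_eq' q', QuotientGroup.eq]
    show (((q.out : B) : G))⁻¹ * ((q'.out : B) : G) ∈ A
    exact QuotientGroup.eq.1 h
  have hb := hf.bijective_of_nat_card_le (by rw [← index_eq_card, ← index_eq_card]; exact hrel.ge)
  obtain ⟨q, hq⟩ := hb.2 ((g⁻¹ : G) : G ⧸ A)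
  have h1 : ((q.out : B) : G)⁻¹ * g⁻¹ ∈ A := QuotientGroup.eq.1 hq
  refine ⟨(((q.out : B) : G)⁻¹ * g⁻¹)⁻¹, inv_mem h1, ((q.out : B) : G)⁻¹, inv_mem (q.out : B).2, ?_⟩
  group

/-- For coprime class sizes the product of the classes is one class. -/
theorem kl_mul {u w : G} (hco : (cl u).Coprime (cl w)) {u' w' : G} (hu : u' ∈ kl u) (hw : w' ∈ kl w) :
    u' * w' ∈ kl (u * w) := by
  obtain ⟨g, rfl⟩ := hu
  obtain ⟨h, rfl⟩ := hw
  obtain ⟨a, ha, b, hb, e⟩ := exists_mul_of_coprime hco (g⁻¹ * h)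
  refine ⟨g * a, ?_⟩
  have hh : h = g * (a * b) := by rw [← e]; group
  have hau : a * u = u * a := (mem_cent.1 ha).symm
  have hbw : b * w = w * b := (mem_cent.1 hb).symm
  calc g * a * (u * w) * (g * a)⁻¹ = g * (a * u) * w * a⁻¹ * g⁻¹ := by group
    _ = g * (u * a) * w * (b * b⁻¹) * a⁻¹ * g⁻¹ := by rw [hau]; group
    _ = g * u * a * (b * w) * b⁻¹ * a⁻¹ * g⁻¹ := by rw [hbw]; group
    _ = g * u * g⁻¹ * (h * w * h⁻¹) := by rw [hh]; group

theorem self_mem_kl (g : G) : g ∈ kl g := ⟨1, by group⟩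

theorem cl_mul {u w : G} (hco : (cl u).Coprime (cl w)) :
    cl (u * w) ∣ cl u * cl w ∧ cl u ≤ cl (u * w) ∧ cl w ≤ cl (u * w) := by
  refine ⟨?_, ?_, ?_⟩
  · have h : cent u ⊓ cent w ≤ cent (u * w) := fun v hv =>
      mem_cent.2 ((show Commute u v from mem_cent.1 (mem_inf.1 hv).1).mul_left
        (mem_cent.1 (mem_inf.1 hv).2)).eq
    have h' := index_dvd_of_le h
    rwa [index_inf_of_coprime hco] at h'
  · rw [← card_kl u, ← card_kl (u * w)]
    exact Nat.card_le_card_of_injective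
      (fun v : kl u => (⟨(v : G) * w, kl_mul hco v.2 (self_mem_kl w)⟩ : kl (u * w)))
      fun a b h => Subtype.ext (mul_right_cancel (congrArg Subtype.val h))
  · rw [← card_kl w, ← card_kl (u * w)]
    exact Nat.card_le_card_of_injective
      (fun v : kl w => (⟨u * (v : G), kl_mul hco (self_mem_kl u) v.2⟩ : kl (u * w)))
      fun a b h => Subtype.ext (mul_left_cancel (congrArg Subtype.val h))

theorem kl_normal {g v : G} (h : v ∈ kl g) (a : G) : a * v * a⁻¹ ∈ kl g := by
  obtain ⟨b, rfl⟩ := h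
  exact ⟨a * b, by group⟩

/-- The key lemma. -/
theorem exists_stab {u w : G} (hco : (cl u).Coprime (cl w)) (he : cl (u * w) = cl w) :
    ∃ L : Subgroup G, L.Normal ∧ Nat.card L ∣ cl w ∧ (∀ g : G, u⁻¹ * (g * u * g⁻¹) ∈ L) ∧
      (∀ t ∈ L, t * w ∈ kl w) ∧ L ≤ cent u := by
  let L : Subgroup G :=
    { carrier := {t | ∀ v, v ∈ kl w ↔ t * v ∈ kl w}
      one_mem' := fun v => by rw [one_mul]
      mul_mem' := fun {a b} ha hb v => by rw [hb v, ha (b * v), mul_assoc]
      inv_mem' := fun {a} ha v => by rw [ha (a⁻¹ * v), mul_inv_cancel_left] }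
  have hiff : ∀ u' ∈ kl u, ∀ v, v ∈ kl w ↔ u' * v ∈ kl (u * w) := by
    intro u' hu' v
    refine ⟨fun hv => kl_mul hco hu' hv, fun hv => ?_⟩
    let f : kl w → kl (u * w) := fun v => ⟨u' * (v : G), kl_mul hco hu' v.2⟩
    have hf : Function.Injective f := fun a b h =>
      Subtype.ext (mul_left_cancel (congrArg Subtype.val h))
    obtain ⟨a, ha⟩ := (hf.bijective_of_nat_card_le (by rw [card_kl, card_kl, he])).2 ⟨_, hv⟩
    rw [← mul_left_cancel (congrArg Subtype.val ha)]
    exact a.2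
  have hn : L.Normal := ⟨fun t ht g v => by
    constructor
    · intro hv
      have h1 := kl_normal ((ht _).1 (kl_normal hv g⁻¹)) g
      rwa [show g * (t * (g⁻¹ * v * g⁻¹⁻¹)) * g⁻¹ = g * t * g⁻¹ * v by group] at h1
    · intro hv
      have h1 := kl_normal ((ht (g⁻¹ * v * g)).2 (by
        have h2 := kl_normal hv g⁻¹
        rwa [show g⁻¹ * (g * t * g⁻¹ * v) * g⁻¹⁻¹ = t * (g⁻¹ * v * g) by group] at h2)) g
      rwa [show g * (g⁻¹ * v * g) * g⁻¹ = v by group] at h1⟩
  have hcard : Nat.card L ∣ cl w := by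
    have hpre : QuotientGroup.mk ⁻¹' (QuotientGroup.mk '' kl w : Set (G ⧸ L)) = kl w := by
      ext v
      refine ⟨fun ⟨a, ha, e⟩ => ?_, fun hv => ⟨v, hv, rfl⟩⟩
      have ht : a⁻¹ * v ∈ L := QuotientGroup.eq.1 e
      have h1 := (hn.conj_mem _ ht a a).1 ha
      rwa [show a * (a⁻¹ * v) * a⁻¹ * a = v by group] at h1
    have h := Nat.card_congr
      (QuotientGroup.preimageMkEquivSubgroupProdSet L (QuotientGroup.mk '' kl w : Set (G ⧸ L)))
    rw [hpre, card_kl, Nat.card_prod] at h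
    exact Dvd.intro _ h.symm
  refine ⟨L, hn, hcard, fun g v => ?_, fun t ht => (ht w).1 (self_mem_kl w), ?_⟩
  · rw [hiff _ ⟨g, rfl⟩ v, hiff u (self_mem_kl u), ← mul_assoc, ← mul_assoc, mul_inv_cancel,
      one_mul]
  · haveI := hn
    exact relIndex_eq_one.1 (Nat.eq_one_of_dvd_coprimes hco
      (Cfsg.Agent.PrimeParts.relIndex_dvd_index_of_normal' (cent u) L)
      ((index_dvd_card ((cent u).subgroupOf L)).trans hcard))

/-- In `exists_stab`, an element of order prime to `|L|` is central. -/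
theorem mem_center_of_stab {u : G} {L : Subgroup G} (hco : (orderOf u).Coprime (Nat.card L))
    (hL : ∀ g : G, u⁻¹ * (g * u * g⁻¹) ∈ L) (hLu : L ≤ cent u) : u ∈ center G := by
  refine mem_center_iff.2 fun g => ?_
  set l := u⁻¹ * (g * u * g⁻¹) with hl
  have hc : Commute u l := mem_cent.1 (hLu (hL g))
  have h1 : l ^ orderOf u = 1 := by
    have h2 : (u * l) ^ orderOf u = 1 := by
      rw [hl, mul_inv_cancel_left, conj_pow, pow_orderOf_eq_one]
      group
    rwa [hc.mul_pow, pow_orderOf_eq_one, one_mul] at h2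
  have h3 : l = 1 := orderOf_eq_one_iff.1 (Nat.eq_one_of_dvd_coprimes hco
    (orderOf_dvd_of_pow_eq_one h1) (orderOf_dvd_natCard L (hL g)))
  have h4 : g * u * g⁻¹ = u := by rw [← mul_left_cancel_iff (a := u⁻¹), ← hl, h3, inv_mul_cancel]
  conv_rhs => rw [← h4]
  group

/-- Splitting an element into its `n`-part and its part of order prime to `n`. -/
theorem exists_split (n : ℕ) (g : G) : ∃ a b : G, a ∈ zpowers g ∧ b ∈ zpowers g ∧ g = a * b ∧
    a * b = b * a ∧ (orderOf a).Coprime (orderOf b) ∧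
    (∀ q : ℕ, q.Prime → q ∣ orderOf a → q ∣ n) ∧ (orderOf b).Coprime n := by
  set N := orderOf g with hN
  have hNpos : 0 < N := orderOf_pos g
  set Q := Nat.gcd N (n ^ N) with hQ
  set M := N / Q with hM
  have hQM : Q * M = N := Nat.mul_div_cancel' (Nat.gcd_dvd_left _ _)
  have key : ∀ q : ℕ, q.Prime → q ∣ M → ¬ q ∣ n := by
    intro q hq hqM hqn
    have hQ0 : Q ≠ 0 := Nat.gcd_ne_zero_left hNpos.ne'
    set a := Q.factorization q with ha
    have h1 : q ^ (a + 1) ∣ N := by
      rw [pow_succ, ← hQM]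
      exact mul_dvd_mul (Nat.ordProj_dvd Q q) hqM
    have h2 : a + 1 ≤ N := ((Nat.lt_pow_self hq.one_lt).trans_le (Nat.le_of_dvd hNpos h1)).le
    have h3 : q ^ (a + 1) ∣ Q :=
      Nat.dvd_gcd h1 ((pow_dvd_pow q h2).trans (pow_dvd_pow_of_dvd hqn N))
    exact Nat.not_succ_le_self a ((hq.pow_dvd_iff_le_factorization hQ0).1 h3)
  have hQn : ∀ q : ℕ, q.Prime → q ∣ Q → q ∣ n := fun q hq h =>
    hq.dvd_of_dvd_pow (h.trans (Nat.gcd_dvd_right _ _))
  have hcop : Q.Coprime M := Nat.coprime_of_dvd fun q hq h1 h2 => key q hq h2 (hQn q hq h1)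
  obtain ⟨e, heQ, heM⟩ := Nat.chineseRemainder hcop 1 0
  obtain ⟨f, hfQ, hfM⟩ := Nat.chineseRemainder hcop 0 1
  have hef : e + f ≡ 1 [MOD N] := by
    rw [← hQM]
    exact (Nat.modEq_and_modEq_iff_modEq_mul hcop).1
      ⟨by simpa using heQ.add hfQ, by simpa using heM.add hfM⟩
  have hea : orderOf (g ^ e) ∣ Q := by
    obtain ⟨k, hk⟩ := Nat.modEq_zero_iff_dvd.1 heM
    refine orderOf_dvd_of_pow_eq_one ?_
    rw [← pow_mul, hk, mul_comm M k, mul_assoc, mul_comm M Q, hQM, mul_comm, pow_mul, hN,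
      pow_orderOf_eq_one, one_pow]
  have hfb : orderOf (g ^ f) ∣ M := by
    obtain ⟨k, hk⟩ := Nat.modEq_zero_iff_dvd.1 hfQ
    refine orderOf_dvd_of_pow_eq_one ?_
    rw [← pow_mul, hk, mul_assoc, mul_comm k, ← mul_assoc, hQM, pow_mul, hN,
      pow_orderOf_eq_one, one_pow]
  refine ⟨g ^ e, g ^ f, pow_mem (mem_zpowers g) _, pow_mem (mem_zpowers g) _, ?_,
    ((Commute.refl g).pow_pow e f).eq, (hcop.coprime_dvd_left hea).coprime_dvd_right hfb,
    fun q hq h => hQn q hq (h.trans hea),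
    Nat.coprime_of_dvd fun q hq h1 h2 => key q hq (h1.trans hfb) h2⟩
  rw [← pow_add]
  conv_lhs => rw [← pow_one g]
  exact pow_eq_pow_iff_modEq.2 hef.symm

/-- A prime power element lies in a conjugate of every subgroup of index prime to it. -/
theorem exists_conj_mem {H : Subgroup G} {d : G} {q b : ℕ} (hq : q.Prime) (hd : orderOf d = q ^ b)
    (hH : ¬ q ∣ H.index) : ∃ h : G, h⁻¹ * d * h ∈ H := by
  haveI : Fact q.Prime := ⟨hq⟩
  obtain ⟨P⟩ := (inferInstance : Nonempty (Sylow q H))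
  have hP : IsPGroup q ((P : Subgroup H).map H.subtype) := P.2.map _
  have hidx : ¬ q ∣ ((P : Subgroup H).map H.subtype).index := by
    rw [index_map_subtype]
    exact fun h => (hq.dvd_mul.1 h).elim P.not_dvd_index hH
  have hd' : IsPGroup q (zpowers d) := IsPGroup.of_card (n := b) (by rw [Nat.card_zpowers, hd])
  obtain ⟨R, hR⟩ := hd'.exists_le_sylow
  obtain ⟨T, hT⟩ := hP.exists_le_sylow
  have hTeq : (P : Subgroup H).map H.subtype = (T : Subgroup G) := by
    refine eq_of_le_of_card_ge hT ?_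
    obtain ⟨t, ht⟩ := IsPGroup.iff_card.1 T.2
    obtain ⟨s, hs⟩ := IsPGroup.iff_card.1 hP
    rw [ht, hs]
    refine Nat.pow_le_pow_right hq.pos ?_
    by_contra hlt
    refine hidx ?_
    have h1 := relIndex_mul_index hT
    have h2 := card_mul_index (((P : Subgroup H).map H.subtype).subgroupOf T)
    rw [Nat.card_congr (subgroupOfEquivOfLe hT).toEquiv, hs, ht] at h2
    rw [← h1]
    refine dvd_mul_of_dvd_left ?_ _
    obtain ⟨i, -, hi⟩ := (Nat.dvd_prime_pow hq).1 (Dvd.intro_left _ h2)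
    show q ∣ (((P : Subgroup H).map H.subtype).subgroupOf T).index
    rw [hi]
    refine dvd_pow_self q fun h0 => ?_
    rw [hi, h0, pow_zero, mul_one] at h2
    exact hlt (Nat.pow_right_injective hq.two_le h2).ge
  obtain ⟨g, hg⟩ := MulAction.exists_smul_eq G R T
  refine ⟨g⁻¹, ?_⟩
  have h3 : g * d * g⁻¹ ∈ (T : Subgroup G) := by
    rw [← hg, Sylow.coe_subgroup_smul]
    exact ⟨d, hR (mem_zpowers d), rfl⟩
  rw [← hTeq] at h3
  rw [inv_inv]
  exact map_subtype_le _ h3

/-! ### The hypothesis -/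

/-- `m > n > 1` are the two largest class sizes, coprime, with witnesses. -/
structure Setup (m n : ℕ) (x : G) : Prop where
  hmn : n < m
  hn : 1 < n
  hco : m.Coprime n
  le_m : ∀ z : G, cl z ≤ m
  le_n : ∀ z : G, cl z < m → cl z ≤ n
  hx : cl x = n
  hxo : (orderOf x).Coprime n
  exists_m : ∃ y : G, cl y = m

namespace Setup

variable {m n : ℕ} {x : G}

theorem cases (S : Setup m n x) (z : G) : cl z = m ∨ cl z ≤ n :=
  (S.le_m z).eq_or_lt.imp id (S.le_n z)

theorem not_dvd (S : Setup m n x) : ¬ n ∣ m := fun h =>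
  S.hn.ne' (Nat.eq_one_of_dvd_coprimes S.hco h dvd_rfl)

theorem le_cases (S : Setup m n x) {z : G} (h : n ∣ cl z) : cl z = n := by
  rcases S.cases z with h1 | h1
  · exact absurd (h1 ▸ h) S.not_dvd
  · exact le_antisymm h1 (Nat.le_of_dvd (cl_pos z) h)

/-- An element of class size `n` yields a normal subgroup of order dividing `m`. -/
theorem stab (S : Setup m n x) {g y : G} (hg : cl g = n) (hy : cl y = m) :
    ∃ L : Subgroup G, L.Normal ∧ Nat.card L ∣ m ∧ (∀ h : G, g⁻¹ * (h * g * h⁻¹) ∈ L) ∧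
      (∀ t ∈ L, t * y ∈ kl y) ∧ L ≤ cent g := by
  have hco : (cl g).Coprime (cl y) := by rw [hg, hy]; exact S.hco.symm
  have he : cl (g * y) = cl y := by
    rw [hy]
    exact le_antisymm (S.le_m _) (hy ▸ (cl_mul hco).2.2)
  rw [← hy]
  exact exists_stab hco he

/-- Theorem A: class sizes prime to `n` are `1` and `m`. -/
theorem thmA (S : Setup m n x) {u : G} (hu : (cl u).Coprime n) : cl u = 1 ∨ cl u = m := by
  by_contra h
  push Not at h
  have small : ∀ w : G, cl w ∣ cl u → cl w ≠ m := fun w hw he =>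
    h.2 (le_antisymm (S.le_m u) (he ▸ Nat.le_of_dvd (cl_pos u) hw))
  -- for every `w` with `cl w ∣ cl u` a normal subgroup of order dividing `n`
  have hLw : ∀ w : G, cl w ∣ cl u → ∃ L : Subgroup G, L.Normal ∧ Nat.card L ∣ n ∧
      (∀ g : G, w⁻¹ * (g * w * g⁻¹) ∈ L) ∧ (∀ t ∈ L, t * x ∈ kl x) ∧ L ≤ cent w := by
    intro w hw
    have hco : (cl w).Coprime (cl x) := by rw [S.hx]; exact hu.coprime_dvd_left hw
    obtain ⟨h1, -, h3⟩ := cl_mul hco
    rw [S.hx] at h1 h3
    have he : cl (w * x) = n := by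
      rcases S.cases (w * x) with h4 | h4
      · rw [h4] at h1
        have h5 : m ∣ cl w := S.hco.dvd_of_dvd_mul_right h1
        exact absurd (le_antisymm (S.le_m w) (Nat.le_of_dvd (cl_pos w) h5)) (small w hw)
      · exact le_antisymm h4 h3
    rw [← S.hx]
    exact exists_stab hco (he.trans S.hx.symm)
  obtain ⟨a, b, ha, hb, hab, -, -, -, hbn⟩ := exists_split n u
  have hbZ : b ∈ center G := by
    obtain ⟨L, -, hL1, hL2, -, hL4⟩ := hLw b (cl_dvd (cent_le_of_mem_zpowers hb))
    exact mem_center_of_stab (hbn.coprime_dvd_right hL1) hL2 hL4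
  have haZ : a ∈ center G := by
    obtain ⟨L, hLn, hL1, hL2, hL3, -⟩ := hLw a (cl_dvd (cent_le_of_mem_zpowers ha))
    obtain ⟨y, hy⟩ := S.exists_m
    obtain ⟨M, hMn, hM1, hM2, -, -⟩ := S.stab S.hx hy
    have hLx : ∀ t ∈ L, Commute x t := by
      intro t ht
      have h1 : x⁻¹ * (t * x * t⁻¹) ∈ L := by
        rw [show x⁻¹ * (t * x * t⁻¹) = (x⁻¹ * t * x⁻¹⁻¹) * t⁻¹ by group]
        exact mul_mem (hLn.conj_mem t ht x⁻¹) (inv_mem ht)
      have h2 := hM2 t
      have h3 : x⁻¹ * (t * x * t⁻¹) = 1 := orderOf_eq_one_iff.1 (Nat.eq_one_of_dvd_coprimes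
        S.hco ((orderOf_dvd_natCard M h2).trans hM1) ((orderOf_dvd_natCard L h1).trans hL1))
      show x * t = t * x
      calc x * t = x * (x⁻¹ * (t * x * t⁻¹)) * t := by rw [h3, mul_one]
        _ = t * x := by group
    have hL : ∀ t ∈ L, t = 1 := by
      intro t ht
      obtain ⟨g, hg⟩ := hL3 t ht
      have hpw : (t * x) ^ orderOf x = 1 := by
        rw [← hg, conj_pow, pow_orderOf_eq_one, mul_one, mul_inv_cancel]
      rw [(hLx t ht).symm.mul_pow, pow_orderOf_eq_one, mul_one] at hpw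
      exact orderOf_eq_one_iff.1 (Nat.eq_one_of_dvd_coprimes S.hxo
        (orderOf_dvd_of_pow_eq_one hpw) ((orderOf_dvd_natCard L ht).trans hL1))
    refine mem_center_iff.2 fun g => ?_
    have h4 : g * a * g⁻¹ = a := (inv_mul_eq_one.1 (hL _ (hL2 g))).symm
    conv_rhs => rw [← h4, inv_mul_cancel_right]
  exact h.1 (cl_eq_one.2 (hab ▸ mul_mem haZ hbZ))

/-- Every centraliser of class size `m` is that of a `p`-element with `p ∣ n`. -/
theorem exists_wit (S : Setup m n x) {y : G} (hy : cl y = m) :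
    ∃ (p b : ℕ) (w : G), p.Prime ∧ p ∣ n ∧ orderOf w = p ^ b ∧ cent w = cent y := by
  have key : ∀ w : G, w ∉ center G → cent y ≤ cent w → cent w = cent y := by
    intro w hw hle
    have hd : cl w ∣ m := hy ▸ cl_dvd hle
    rcases S.thmA (S.hco.coprime_dvd_left hd) with h | h
    · exact absurd (cl_eq_one.1 h) hw
    · exact (eq_of_le_of_cl hle (by rw [hy, h])).symm
  have hyZ : y ∉ center G := fun h => by
    have := cl_eq_one.2 h
    have := S.hn; have := S.hmn
    omega
  obtain ⟨q, b, yq, hq, -, hyq, hyqo, hyqZ⟩ := Cfsg.Agent.PrimeParts.exists_part_not_mem hyZ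
  have hCyq : cent yq = cent y := key yq hyqZ (cent_le_of_mem_zpowers hyq)
  by_cases hqn : q ∣ n
  · exact ⟨q, b, yq, hq, hqn, hyqo, hCyq⟩
  obtain ⟨p, hp, hpn⟩ := Nat.exists_prime_and_dvd S.hn.ne'
  haveI : Fact p.Prime := ⟨hp⟩
  obtain ⟨P⟩ := (inferInstance : Nonempty (Sylow p (cent y)))
  have hPidx : ¬ p ∣ ((P : Subgroup (cent y)).map (cent y).subtype).index := by
    rw [index_map_subtype]
    intro h
    rcases hp.dvd_mul.1 h with h | h
    · exact P.not_dvd_index h
    · rw [show (cent y).index = m from hy] at h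
      exact hp.ne_one (Nat.eq_one_of_dvd_coprimes S.hco h hpn)
  by_contra hcon
  push Not at hcon
  have hle : (P : Subgroup (cent y)).map (cent y).subtype ≤ cent x := by
    rintro v ⟨⟨d, hd⟩, hdP, rfl⟩
    show d ∈ cent x
    by_contra hdx
    have hdZ : d ∉ center G := fun h => hdx (center_le_cent x h)
    obtain ⟨i, hi⟩ := P.2.exists_orderOf_eq_pow ⟨_, hdP⟩
    rw [orderOf_mk, orderOf_mk] at hi
    have hdq : Commute d yq := by
      have h := hd
      rw [← hCyq] at h
      exact (mem_cent.1 h).symm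
    have hne : p ≠ q := fun h => hqn (h ▸ hpn)
    have hco : (orderOf d).Coprime (orderOf yq) := by
      rw [hi, hyqo]
      exact ((Nat.coprime_primes hp hq).2 hne).pow i b
    have hC := cent_mul_coprime hdq.eq hco
    rw [hCyq] at hC
    have hle' : cent (d * yq) ≤ cent y := hC ▸ inf_le_right
    have hle2 : cent y ≤ cent d := by
      rw [← eq_of_le_of_cl hle' (by rw [hy]; exact S.le_m _), hC]
      exact inf_le_left
    exact hcon p i d hp hpn hi (key d hdZ hle2)
  have h1 := (index_dvd_of_le hle)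
  rw [show (cent x).index = n from S.hx] at h1
  exact hPidx (hpn.trans h1)

/-- `x` lies in no centraliser of class size `m`. -/
theorem not_mem (S : Setup m n x) {y : G} (hy : cl y = m) : x ∉ cent y := by
  intro hxy
  obtain ⟨p, b, w, hp, hpn, hwo, hwy⟩ := S.exists_wit hy
  have hc : x * w = w * x := by
    rw [← hwy] at hxy
    exact (mem_cent.1 hxy).symm
  have hco : (orderOf x).Coprime (orderOf w) := by
    rw [hwo]
    exact (S.hxo.coprime_dvd_right hpn).pow_right b
  have hC := cent_mul_coprime hc hco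
  rw [hwy] at hC
  have h2 : cent (x * w) = cent y := eq_of_le_of_cl (hC ▸ inf_le_right) (by rw [hy]; exact S.le_m _)
  have h3 : cent y ≤ cent x := by rw [← h2, hC]; exact inf_le_left
  exact S.not_dvd (S.hx ▸ hy ▸ cl_dvd h3)

/-- `C(x)` meets every centraliser of class size `m` in the centre. -/
theorem inf_eq_center (S : Setup m n x) {y : G} (hy : cl y = m) : cent y ⊓ cent x = center G := by
  refine le_antisymm (fun t ht => ?_) (le_inf (center_le_cent y) (center_le_cent x))
  obtain ⟨hty, htx⟩ := mem_inf.1 ht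
  by_contra htZ
  obtain ⟨q, b, tq, hq, -, htq, htqo, htqZ⟩ := Cfsg.Agent.PrimeParts.exists_part_not_mem htZ
  have htqy : tq ∈ cent y := zpowers_le.2 hty htq
  have htqx : tq ∈ cent x := zpowers_le.2 htx htq
  by_cases hqn : q ∣ n
  · have hco : (orderOf x).Coprime (orderOf tq) := by
      rw [htqo]
      exact (S.hxo.coprime_dvd_right hqn).pow_right b
    have hC := cent_mul_coprime (mem_cent.1 htqx) hco
    have hd : n ∣ cl (x * tq) := S.hx ▸ cl_dvd (hC ▸ inf_le_left)
    have h2 : cent (x * tq) = cent x :=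
      eq_of_le_of_cl (hC ▸ inf_le_left) (by rw [S.le_cases hd, S.hx])
    have h3 : cl tq ∣ n := S.hx ▸ cl_dvd (by rw [← h2, hC]; exact inf_le_right)
    have hco2 : (cl tq).Coprime (cl y) := by rw [hy]; exact S.hco.symm.coprime_dvd_left h3
    have he : cl (tq * y) = cl y := by
      rw [hy]
      exact le_antisymm (S.le_m _) (hy ▸ (cl_mul hco2).2.2)
    obtain ⟨L, -, hL1, hL2, -, hL4⟩ := exists_stab hco2 he
    rw [hy] at hL1
    refine htqZ (mem_center_of_stab ?_ hL2 hL4)
    rw [htqo]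
    exact ((S.hco.symm.coprime_dvd_left hqn).pow_left b).coprime_dvd_right hL1
  · obtain ⟨p, c, w, hp, hpn, hwo, hwy⟩ := S.exists_wit hy
    have hne : q ≠ p := fun h => hqn (h ▸ hpn)
    have hco : (orderOf tq).Coprime (orderOf w) := by
      rw [htqo, hwo]
      exact ((Nat.coprime_primes hq hp).2 hne).pow b c
    have hc : tq * w = w * tq := by
      rw [← hwy] at htqy
      exact (mem_cent.1 htqy).symm
    have hC := cent_mul_coprime hc hco
    rw [hwy] at hC
    have h2 : cent (tq * w) = cent y := eq_of_le_of_cl (hC ▸ inf_le_right) (by rw [hy]; exact S.le_m _)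
    have h3 : cent y ≤ cent tq := by rw [← h2, hC]; exact inf_le_left
    have hd : cl tq ∣ m := hy ▸ cl_dvd h3
    rcases S.thmA (S.hco.coprime_dvd_left hd) with h | h
    · exact htqZ (cl_eq_one.1 h)
    · exact S.not_mem h (cent_comm.1 htqx)

/-- A noncentral element of order prime to `n` does not have class size `m`. -/
theorem cl_ne_of_coprime (S : Setup m n x) {g : G} (hg : (orderOf g).Coprime n) : cl g ≠ m := by
  intro hgm
  have hgZ : g ∉ center G := fun h => by
    have := cl_eq_one.2 h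
    have := S.hn; have := S.hmn
    omega
  obtain ⟨q, b, gq, hq, hqg, hgq, hgqo, hgqZ⟩ := Cfsg.Agent.PrimeParts.exists_part_not_mem hgZ
  have hd : cl gq ∣ m := hgm ▸ cl_dvd (cent_le_of_mem_zpowers hgq)
  rcases S.thmA (S.hco.coprime_dvd_left hd) with h | h
  · exact hgqZ (cl_eq_one.1 h)
  have hqn : ¬ q ∣ (cent x).index := by
    rw [show (cent x).index = n from S.hx]
    exact fun h' => hq.ne_one (Nat.eq_one_of_dvd_coprimes hg hqg h')
  obtain ⟨k, hk⟩ := exists_conj_mem (H := cent x) hq hgqo hqn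
  set c := k⁻¹ * gq * k with hc
  have hcm : cl c = m := by
    rw [hc, show k⁻¹ * gq * k = k⁻¹ * gq * k⁻¹⁻¹ by rw [inv_inv], cl_conj, h]
  have hcZ : c ∈ center G := S.inf_eq_center hcm ▸ mem_inf.2 ⟨self_mem_cent c, hk⟩
  have := cl_eq_one.2 hcZ
  have := S.hn; have := S.hmn
  omega

end Setup

namespace Setup

variable {m n : ℕ} {x : G}

/-- An abelian normal subgroup containing `g` of order prime to `n`. -/
theorem exists_abelian (S : Setup m n x) {g : G} (hg : cl g = n) (hgo : (orderOf g).Coprime n) :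
    ∃ A : Subgroup G, A.Normal ∧ g ∈ A ∧ (∀ a ∈ A, ∀ b ∈ A, a * b = b * a) ∧
      (Nat.card A).Coprime n := by
  obtain ⟨y, hy⟩ := S.exists_m
  obtain ⟨M, -, -, hM, -, hMg⟩ := S.stab hg hy
  have hcomm : ∀ u ∈ kl g, ∀ v ∈ kl g, v ∈ centralizer ({u} : Set G) := by
    rintro _ ⟨h, rfl⟩ _ ⟨k, rfl⟩
    have h1 : (h⁻¹ * k) * g * (h⁻¹ * k)⁻¹ ∈ cent g := by
      have h2 := mul_mem (self_mem_cent g) (hMg (hM (h⁻¹ * k)))
      rwa [mul_inv_cancel_left] at h2
    show k * g * k⁻¹ ∈ cent (h * g * h⁻¹)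
    rw [cent_conj_mem, show h⁻¹ * (k * g * k⁻¹) * h = (h⁻¹ * k) * g * (h⁻¹ * k)⁻¹ by group]
    exact h1
  set A := closure (kl g) with hA
  have hab : ∀ a ∈ A, ∀ b ∈ A, a * b = b * a := by
    have h1 : A ≤ centralizer (kl g) := (closure_le _).2 fun v hv => mem_centralizer_iff.2 fun u hu =>
      (mem_centralizer_singleton_iff.1 (hcomm u hu v hv)).symm
    have h2 : A ≤ centralizer (A : Set G) := by
      refine (closure_le _).2 fun v hv => mem_centralizer_iff.2 fun a ha => ?_
      exact (mem_centralizer_iff.1 (h1 ha) v hv).symm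
    exact fun a ha b hb => (mem_centralizer_iff.1 (h2 ha) b hb).symm
  refine ⟨A, ⟨fun a ha h => ?_⟩, subset_closure (self_mem_kl g), hab, ?_⟩
  · have h1 : A ≤ A.comap (MulAut.conj h).toMonoidHom :=
      (closure_le _).2 fun v hv => subset_closure (kl_normal hv h)
    exact h1 ha
  · have hexp : ∀ a ∈ A, a ^ orderOf g = 1 := by
      intro a ha
      induction ha using closure_induction with
      | mem v hv =>
        obtain ⟨h, rfl⟩ := hv
        rw [conj_pow, pow_orderOf_eq_one]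
        group
      | one => exact one_pow _
      | mul v w hv hw h1 h2 => rw [(show Commute v w from hab v hv w hw).mul_pow, h1, h2, one_mul]
      | inv v hv h1 => rw [inv_pow, h1, inv_one]
    refine Nat.coprime_of_dvd fun q hq hqA hqn => ?_
    haveI : Fact q.Prime := ⟨hq⟩
    obtain ⟨a, ha⟩ := exists_prime_orderOf_dvd_card' q hqA
    refine hq.ne_one (Nat.eq_one_of_dvd_coprimes hgo ?_ hqn)
    rw [← ha, ← orderOf_coe]
    exact orderOf_dvd_of_pow_eq_one (hexp _ a.2)

/-- The index of the centre in `C(y)` is `n`. -/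
theorem relIndex_center (S : Setup m n x) {y : G} (hy : cl y = m) :
    (center G).relIndex (cent y) = n := by
  have h := relIndex_mul_index (inf_le_left : cent y ⊓ cent x ≤ cent y)
  have hco : (cent y).index.Coprime (cent x).index := by
    rw [show (cent y).index = m from hy, show (cent x).index = n from S.hx]
    exact S.hco
  rw [index_inf_of_coprime hco, S.inf_eq_center hy, show (cent y).index = m from hy,
    show (cent x).index = n from S.hx, mul_comm m n] at h
  exact Nat.eq_of_mul_eq_mul_right (by have := S.hn; have := S.hmn; omega) h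

/-- Noncentral `p`-elements, `p ∣ n`, have class size `m`. -/
theorem cl_primePow (S : Setup m n x) {d : G} {p b : ℕ} (hp : p.Prime) (hpn : p ∣ n)
    (hd : orderOf d = p ^ b) (hdZ : d ∉ center G) : cl d = m := by
  suffices H : ∀ e : G, ∀ y : G, cl y = m → orderOf e = p ^ b → e ∉ center G → e ∈ cent y →
      cl e = m by
    obtain ⟨y, hy⟩ := S.exists_m
    obtain ⟨h, hh⟩ := exists_conj_mem (H := cent y) hp hd (by
      rw [show (cent y).index = m from hy]
      exact fun h' => hp.ne_one (Nat.eq_one_of_dvd_coprimes S.hco h' hpn))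
    have e1 : h⁻¹ * d * h = h⁻¹ * d * h⁻¹⁻¹ := by rw [inv_inv]
    rw [← cl_conj d h⁻¹, ← e1]
    refine H _ y hy ?_ (fun hc => hdZ ?_) hh
    · rw [e1, show h⁻¹ * d * h⁻¹⁻¹ = MulAut.conj h⁻¹ d from rfl, MulEquiv.orderOf_eq, hd]
    · have h2 := (inferInstance : (center G).Normal).conj_mem _ hc h
      rwa [show h * (h⁻¹ * d * h) * h⁻¹ = d by group] at h2
  clear hd hdZ d
  intro d y hy hd hdZ hdy
  obtain ⟨A, hAn, hxA, hab, hAco⟩ := S.exists_abelian S.hx S.hxo
  have hAc : IsMulCommutative A := ⟨⟨fun a b => Subtype.ext (hab a a.2 b b.2)⟩⟩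
  have hdN : d ∈ normalizer (A : Set G) := (normalizer_eq_top_iff.2 hAn).symm ▸ mem_top d
  have hco : (orderOf d).Coprime (Nat.card A) := by
    rw [hd]
    exact ((hAco.coprime_dvd_right hpn).symm).pow_left b
  set B := Cfsg.Agent.SelfNormNonabelian.commRange A hAc d hdN with hB
  have hBA : B ≤ A := Cfsg.Agent.SelfNormNonabelian.commRange_le hAc hdN
  have hfix : ∀ t ∈ B, d * t = t * d → t = 1 := by
    intro t ht hdt
    have htA := hBA ht
    obtain ⟨u, -, e⟩ := ht
    exact Cfsg.Agent.SelfNormNonabelian.eq_one_of_comm_fixed hco htA hdt e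
  have hmk : ∀ u ∈ A, d * u * d⁻¹ * u⁻¹ ∈ B := fun u hu => ⟨u, hu, rfl⟩
  -- `x = x₁ x₂`
  obtain ⟨x₂, hx₂, hx₁d⟩ : ∃ x₂ ∈ B, d * (x * x₂⁻¹) = (x * x₂⁻¹) * d := by
    let φ : B → B := fun t => ⟨d * (t : G) * d⁻¹ * (t : G)⁻¹, hmk _ (hBA t.2)⟩
    have hφ : Function.Injective φ := by
      intro s t e
      have e' : d * (s : G) * d⁻¹ * (s : G)⁻¹ = d * (t : G) * d⁻¹ * (t : G)⁻¹ := congrArg Subtype.val e
      refine Subtype.ext (inv_mul_eq_one.1 (hfix _ (mul_mem (inv_mem s.2) t.2) ?_))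
      have hs' : d * (s : G) * d⁻¹ ∈ A := hAn.conj_mem _ (hBA s.2) d
      have ht' : d * (t : G) * d⁻¹ ∈ A := hAn.conj_mem _ (hBA t.2) d
      have e2 : (d * (s : G) * d⁻¹)⁻¹ * (d * (t : G) * d⁻¹) = (s : G)⁻¹ * (t : G) := by
        calc _ = (d * (s : G) * d⁻¹)⁻¹ * (d * (t : G) * d⁻¹ * (t : G)⁻¹) * (t : G) := by group
          _ = _ := by rw [← e']; group
      calc d * ((s : G)⁻¹ * (t : G)) = (d * (s : G) * d⁻¹)⁻¹ * (d * (t : G) * d⁻¹) * d := by group
        _ = _ := by rw [e2]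
    obtain ⟨t, ht⟩ := (Finite.injective_iff_surjective.1 hφ) ⟨_, hmk x hxA⟩
    have e : d * (t : G) * d⁻¹ * (t : G)⁻¹ = d * x * d⁻¹ * x⁻¹ := congrArg Subtype.val ht
    refine ⟨t, t.2, ?_⟩
    set c := d * (t : G) * d⁻¹ * (t : G)⁻¹ with hc
    have hcA : c ∈ A := hBA (hmk _ (hBA t.2))
    have hxt : x * (t : G)⁻¹ ∈ A := mul_mem hxA (inv_mem (hBA t.2))
    calc d * (x * (t : G)⁻¹) = (d * x * d⁻¹ * x⁻¹) * (x * (t : G)⁻¹) * c⁻¹ * d := by rw [hc]; group
      _ = c * (x * (t : G)⁻¹) * c⁻¹ * d := by rw [← e]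
      _ = x * (t : G)⁻¹ * d := by rw [hab c hcA _ hxt, mul_inv_cancel_right]
  set x₁ := x * x₂⁻¹ with hx₁
  have hx₁A : x₁ ∈ A := mul_mem hxA (inv_mem (hBA hx₂))
  have hx12 : x = x₁ * x₂ := by rw [hx₁, inv_mul_cancel_right]
  have hx₁o : (orderOf x₁).Coprime n := hAco.coprime_dvd_left (orderOf_dvd_natCard A hx₁A)
  have hco1 : (orderOf d).Coprime (orderOf x₁) :=
    hco.coprime_dvd_right (orderOf_dvd_natCard A hx₁A)
  have hC := cent_mul_coprime hx₁d hco1
  rcases S.cases (d * x₁) with h | h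
  · have h1 : cl x₁ ∣ m := h ▸ cl_dvd (hC ▸ inf_le_right)
    rcases S.thmA (S.hco.coprime_dvd_left h1) with h2 | h2
    · have h3 : cent x₁ = ⊤ := index_eq_one.1 h2
      rw [h3, inf_top_eq] at hC
      rw [← h]
      show (cent d).index = (cent (d * x₁)).index
      rw [hC]
    · exact absurd h2 (S.cl_ne_of_coprime hx₁o)
  exfalso
  set D := cent y with hD
  set S₁ := D ⊓ cent d ⊓ cent x₁ with hS₁
  set S₂ := S₁ ⊓ cent x₂ with hS₂
  have hS₁D : S₁ ≤ D := inf_le_left.trans inf_le_left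
  have hS₂Z : S₂ ≤ center G := by
    intro v hv
    obtain ⟨hv1, hv2⟩ := mem_inf.1 hv
    rw [← S.inf_eq_center hy]
    refine mem_inf.2 ⟨hS₁D hv1, ?_⟩
    rw [hx12]
    exact mem_cent.2 ((show Commute x₁ v from mem_cent.1 (mem_inf.1 hv1).2).mul_left
      (mem_cent.1 hv2)).eq
  have hn : n ≤ S₂.relIndex S₁ * S₁.relIndex D := by
    rw [← S.relIndex_center hy, relIndex_mul_relIndex _ _ _ inf_le_left hS₁D]
    exact relIndex_le_of_le_left hS₂Z index_ne_zero_of_finite
  have hD1 : x₂ ≠ 1 := by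
    intro h1
    rw [hx₁, h1, inv_one, mul_one] at hx₁d
    exact hdZ (S.inf_eq_center hy ▸ mem_inf.2 ⟨hdy, mem_cent.2 hx₁d.symm⟩)
  have hB1 : ∀ σ ∈ cent d, ∀ β ∈ B, σ * β * σ⁻¹ ∈ B := by
    intro σ hσ β hβ
    obtain ⟨u, hu, rfl⟩ := hβ
    refine ⟨σ * u * σ⁻¹, hAn.conj_mem _ hu σ, ?_⟩
    have e : d * σ = σ * d := mem_cent.1 hσ
    have e' : σ⁻¹ * d⁻¹ = d⁻¹ * σ⁻¹ := by rw [← mul_inv_rev, e, mul_inv_rev]
    rw [commutatorElement_def, commutatorElement_def]
    calc d * (σ * u * σ⁻¹) * d⁻¹ * (σ * u * σ⁻¹)⁻¹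
        = (d * σ) * u * (σ⁻¹ * d⁻¹) * σ * u⁻¹ * σ⁻¹ := by group
      _ = σ * (d * u * d⁻¹ * u⁻¹) * σ⁻¹ := by rw [e, e']; group
  -- the second factor is smaller than `|B|`
  have hb : S₂.relIndex S₁ + 1 ≤ Nat.card B := by
    let f : Option (↥S₁ ⧸ S₂.subgroupOf S₁) → B := fun o =>
      match o with
      | none => 1
      | some q => ⟨((q.out : S₁) : G) * x₂ * ((q.out : S₁) : G)⁻¹,
          hB1 _ (mem_inf.1 (mem_inf.1 (q.out : S₁).2).1).2 _ hx₂⟩
    have hf : Function.Injective f := by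
      intro o o' e
      match o, o' with
      | none, none => rfl
      | none, some q =>
        exfalso
        have e' : (1 : G) = ((q.out : S₁) : G) * x₂ * ((q.out : S₁) : G)⁻¹ := congrArg Subtype.val e
        exact hD1 (conj_eq_one_iff.1 e'.symm)
      | some q, none =>
        exfalso
        have e' : ((q.out : S₁) : G) * x₂ * ((q.out : S₁) : G)⁻¹ = (1 : G) := congrArg Subtype.val e
        exact hD1 (conj_eq_one_iff.1 e')
      | some q, some q' =>
        have e' : ((q.out : S₁) : G) * x₂ * ((q.out : S₁) : G)⁻¹ =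
            ((q'.out : S₁) : G) * x₂ * ((q'.out : S₁) : G)⁻¹ := congrArg Subtype.val e
        congr 1
        rw [← QuotientGroup.out_eq' q, ← QuotientGroup.out_eq' q', QuotientGroup.eq]
        show (((q.out : S₁) : G))⁻¹ * ((q'.out : S₁) : G) ∈ S₂
        refine mem_inf.2 ⟨mul_mem (inv_mem (q.out : S₁).2) (q'.out : S₁).2, mem_cent.2 ?_⟩
        calc x₂ * (((q.out : S₁) : G)⁻¹ * ((q'.out : S₁) : G))
            = ((q.out : S₁) : G)⁻¹ * (((q.out : S₁) : G) * x₂ * ((q.out : S₁) : G)⁻¹) * ((q'.out : S₁) : G) := by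
              group
          _ = ((q.out : S₁) : G)⁻¹ * ((q'.out : S₁) : G) * x₂ := by rw [e']; group
    have := Nat.card_le_card_of_injective f hf
    rwa [Finite.card_option] at this
  -- each coset of `S₁` gives `|B|` conjugates
  have ha : S₁.relIndex D * Nat.card B ≤ cl (d * x₁) := by
    have hmem : ∀ β ∈ B, β * (d * x₁) ∈ kl (d * x₁) := by
      intro β hβ
      obtain ⟨u, hu, e⟩ := inv_mem hβ
      refine ⟨u, ?_⟩
      have hc : x₁ * u⁻¹ = u⁻¹ * x₁ := hab _ hx₁A _ (inv_mem hu)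
      rw [commutatorElement_def] at e
      calc u * (d * x₁) * u⁻¹ = u * d * (x₁ * u⁻¹) := by group
        _ = (d * u * d⁻¹ * u⁻¹)⁻¹ * (d * x₁) := by rw [hc]; group
        _ = β * (d * x₁) := by rw [e, inv_inv]
    let f : (↥D ⧸ S₁.subgroupOf D) × B → kl (d * x₁) := fun qb =>
      ⟨((qb.1.out : D) : G) * ((qb.2 : G) * (d * x₁)) * ((qb.1.out : D) : G)⁻¹,
        kl_normal (hmem _ qb.2.2) _⟩
    have hf : Function.Injective f := by
      rintro ⟨q, β⟩ ⟨q', β'⟩ e
      have e' : ((q.out : D) : G) * ((β : G) * (d * x₁)) * ((q.out : D) : G)⁻¹ =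
          ((q'.out : D) : G) * ((β' : G) * (d * x₁)) * ((q'.out : D) : G)⁻¹ := congrArg Subtype.val e
      set σ := ((q'.out : D) : G)⁻¹ * ((q.out : D) : G) with hσ
      have hσD : σ ∈ D := mul_mem (inv_mem (q'.out : D).2) (q.out : D).2
      have e1 : σ * ((β : G) * (d * x₁)) * σ⁻¹ = (β' : G) * (d * x₁) := by
        calc _ = ((q'.out : D) : G)⁻¹ * (((q.out : D) : G) * ((β : G) * (d * x₁)) * ((q.out : D) : G)⁻¹) *
              ((q'.out : D) : G) := by rw [hσ]; group
          _ = _ := by rw [e']; group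
      set a := σ * d * σ⁻¹ * d⁻¹ with ha
      have haA : a ∈ A := by
        have h1 : a = ((σ * (β : G) * σ⁻¹)⁻¹ * (β' : G)) * (d * (x₁ * (σ * x₁ * σ⁻¹)⁻¹) * d⁻¹) := by
          calc a = (σ * (β : G) * σ⁻¹)⁻¹ * (σ * ((β : G) * (d * x₁)) * σ⁻¹) * (σ * x₁ * σ⁻¹)⁻¹ * d⁻¹ := by
                rw [ha]; group
            _ = _ := by rw [e1]; group
        rw [h1]
        exact mul_mem (mul_mem (inv_mem (hAn.conj_mem _ (hBA β.2) σ)) (hBA β'.2))
          (hAn.conj_mem _ (mul_mem hx₁A (inv_mem (hAn.conj_mem _ hx₁A σ))) d)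
      have haZ : a ∈ center G := by
        rw [← S.inf_eq_center hy]
        exact mem_inf.2 ⟨mul_mem (mul_mem (mul_mem hσD hdy) (inv_mem hσD)) (inv_mem hdy),
          mem_cent.2 (hab _ hxA _ haA)⟩
      have ha1 : a = 1 := by
        have h1 : (a * d) ^ orderOf d = 1 := by
          rw [ha, inv_mul_cancel_right, conj_pow, pow_orderOf_eq_one]
          group
        rw [(show Commute a d from (mem_center_iff.1 haZ d).symm).mul_pow, pow_orderOf_eq_one,
          mul_one] at h1
        exact orderOf_eq_one_iff.1 (Nat.eq_one_of_dvd_coprimes hco (orderOf_dvd_of_pow_eq_one h1)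
          (orderOf_dvd_natCard A haA))
      have hσd : σ * d * σ⁻¹ = d := mul_inv_eq_one.1 ha1
      have hσcd : σ ∈ cent d := mem_cent.2 (by conv_lhs => rw [← hσd, inv_mul_cancel_right])
      set γ := (β' : G)⁻¹ * (σ * (β : G) * σ⁻¹) with hγ
      have hγB : γ ∈ B := mul_mem (inv_mem β'.2) (hB1 σ hσcd _ β.2)
      have hcs : d * (σ * x₁ * σ⁻¹) = (σ * x₁ * σ⁻¹) * d := by
        have hcd : Commute d σ := mem_cent.1 hσcd
        exact ((hcd.mul_right hx₁d).mul_right hcd.inv_right).eq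
      have e2 : γ * (σ * x₁ * σ⁻¹) = x₁ := by
        have h1 : (β' : G) * γ * (σ * x₁ * σ⁻¹) * d = (β' : G) * x₁ * d := by
          calc _ = (σ * (β : G) * σ⁻¹) * ((σ * x₁ * σ⁻¹) * d) := by rw [hγ]; group
            _ = σ * ((β : G) * (d * x₁)) * σ⁻¹ := by
              rw [← hcs]
              conv_lhs => arg 2; arg 1; rw [← hσd]
              group
            _ = _ := by rw [e1, mul_assoc, hx₁d]
        have h2 := mul_right_cancel h1
        rw [mul_assoc] at h2
        exact mul_left_cancel h2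
      have hγ1 : γ = 1 := by
        refine hfix γ hγB ?_
        rw [show γ = x₁ * (σ * x₁ * σ⁻¹)⁻¹ from eq_mul_inv_of_mul_eq e2]
        exact ((show Commute d x₁ from hx₁d).mul_right (show Commute d _ from hcs).inv_right).eq
      rw [hγ1, one_mul] at e2
      have hσx : σ ∈ cent x₁ := mem_cent.2 (by conv_lhs => rw [← e2, inv_mul_cancel_right])
      have hqq : q' = q := by
        rw [← QuotientGroup.out_eq' q, ← QuotientGroup.out_eq' q', QuotientGroup.eq]
        exact mem_inf.2 ⟨mem_inf.2 ⟨hσD, hσcd⟩, hσx⟩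
      subst hqq
      refine Prod.ext rfl (Subtype.ext ?_)
      exact mul_right_cancel (mul_left_cancel (mul_right_cancel e'))
    have := Nat.card_le_card_of_injective f hf
    rw [Nat.card_prod, card_kl] at this
    exact this
  have h1 : S₂.relIndex S₁ * S₁.relIndex D + S₁.relIndex D ≤ n := by
    calc _ = S₁.relIndex D * (S₂.relIndex S₁ + 1) := by ring
      _ ≤ S₁.relIndex D * Nat.card B := Nat.mul_le_mul_left _ hb
      _ ≤ n := ha.trans h
  have h2 : 0 < S₁.relIndex D := Nat.pos_of_ne_zero index_ne_zero_of_finite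
  omega

/-- No noncentral `p`-element, `p ∣ n`, commutes with a noncentral element of order prime to `n`. -/
theorem mem_center_of_comm (S : Setup m n x) {g d : G} {p b : ℕ} (hg : (orderOf g).Coprime n)
    (hgZ : g ∉ center G) (hp : p.Prime) (hpn : p ∣ n) (hd : orderOf d = p ^ b)
    (hc : d * g = g * d) : d ∈ center G := by
  by_contra hdZ
  have hm := S.cl_primePow hp hpn hd hdZ
  have hC := cent_mul_coprime hc (by rw [hd]; exact ((hg.coprime_dvd_right hpn).symm).pow_left b)
  have h2 : cent (d * g) = cent d := eq_of_le_of_cl (hC ▸ inf_le_left) (by rw [hm]; exact S.le_m _)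
  have h3 : cl g ∣ m := hm ▸ cl_dvd (by rw [← h2, hC]; exact inf_le_right)
  rcases S.thmA (S.hco.coprime_dvd_left h3) with h | h
  · exact hgZ (cl_eq_one.1 h)
  · exact S.cl_ne_of_coprime hg h

/-- The `n`-part of `|C(g) : Z|` is trivial. -/
theorem coprime_relIndex (S : Setup m n x) {g : G} (hg : (orderOf g).Coprime n)
    (hgZ : g ∉ center G) : ((center G).relIndex (cent g)).Coprime n := by
  refine Nat.coprime_of_dvd fun p hp hpr hpn => ?_
  haveI : Fact p.Prime := ⟨hp⟩
  obtain ⟨P⟩ := (inferInstance : Nonempty (Sylow p (cent g)))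
  have hle : (P : Subgroup (cent g)) ≤ (center G).subgroupOf (cent g) := by
    intro d hd
    obtain ⟨i, hi⟩ := P.2.exists_orderOf_eq_pow ⟨d, hd⟩
    rw [orderOf_mk, ← orderOf_coe] at hi
    exact S.mem_center_of_comm hg hgZ hp hpn hi (mem_cent.1 d.2).symm
  exact P.not_dvd_index (hpr.trans (index_dvd_of_le hle))

/-- Noncentral elements of order prime to `n` have class size `n`. -/
theorem cl_eq_n (S : Setup m n x) {g : G} (hg : (orderOf g).Coprime n) (hgZ : g ∉ center G) :
    cl g = n := by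
  refine S.le_cases ?_
  have h1 := relIndex_mul_index (center_le_cent g)
  have h2 := relIndex_mul_index (center_le_cent x)
  rw [← h2, show (cent x).index = n from S.hx] at h1
  exact (S.coprime_relIndex hg hgZ).symm.dvd_of_dvd_mul_left ⟨_, h1.trans (mul_comm _ _)⟩

theorem x_notMem_center (S : Setup m n x) : x ∉ center G := fun h => by
  have := cl_eq_one.2 h
  have := S.hx
  have := S.hn
  omega

/-- `C(x)` is normal, and it is the centraliser of every noncentral element of order prime to `n`. -/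
theorem main_C (S : Setup m n x) :
    (cent x).Normal ∧ (∀ g : G, (orderOf g).Coprime n → g ∈ cent x) ∧
      ∀ g : G, (orderOf g).Coprime n → g ∉ center G → cent g = cent x := by
  obtain ⟨K, ⟨hKn, hKco⟩, hmax⟩ := (Set.toFinite
    {K : Subgroup G | K.Normal ∧ (Nat.card K).Coprime n}).exists_maximal
    ⟨⊥, inferInstance, by simp⟩
  haveI := hKn
  have hmem : ∀ g : G, (orderOf g).Coprime n → g ∈ K := by
    intro g hg
    obtain ⟨A, hAn, hgA, hAco⟩ : ∃ A : Subgroup G, A.Normal ∧ g ∈ A ∧ (Nat.card A).Coprime n := by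
      by_cases hgZ : g ∈ center G
      · refine ⟨zpowers g, ⟨fun a ha h => ?_⟩, mem_zpowers g, by rwa [Nat.card_zpowers]⟩
        rw [mem_center_iff.1 (zpowers_le.2 hgZ ha) h, mul_inv_cancel_right]
        exact ha
      · obtain ⟨A, h1, h2, -, h4⟩ := S.exists_abelian (S.cl_eq_n hg hgZ) hg
        exact ⟨A, h1, h2, h4⟩
    haveI := hAn
    have hsup : (Nat.card ↥(A ⊔ K)).Coprime n := by
      have h1 := card_mul_index (K.subgroupOf (A ⊔ K))
      rw [Nat.card_congr (subgroupOfEquivOfLe le_sup_right).toEquiv] at h1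
      rw [← h1, show (K.subgroupOf (A ⊔ K)).index = K.relIndex A from relIndex_sup_right A K]
      exact hKco.mul (hAco.coprime_dvd_left (index_dvd_card (K.subgroupOf A)))
    exact hmax (y := A ⊔ K) ⟨inferInstance, hsup⟩ le_sup_right (mem_sup_left hgA)
  have hle : ∀ g : G, (orderOf g).Coprime n → g ∉ center G → cent g ≤ center G ⊔ K := by
    intro g hg hgZ v hv
    obtain ⟨a, b, ha, -, hab, -, -, han, hbn⟩ := exists_split n v
    have haZ : a ∈ center G := by
      by_contra haZ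
      obtain ⟨q, c, e, hq, hqa, he, heo, heZ⟩ := Cfsg.Agent.PrimeParts.exists_part_not_mem haZ
      exact heZ (S.mem_center_of_comm hg hgZ hq (han q hq hqa) heo
        (mem_cent.1 (zpowers_le.2 hv (zpowers_le.2 ha he))).symm)
    rw [hab]
    exact mul_mem (mem_sup_left haZ) (mem_sup_right (hmem b hbn))
  have hr : ((center G).relIndex (center G ⊔ K)).Coprime n := by
    rw [relIndex_sup_left]
    exact hKco.coprime_dvd_left (index_dvd_card ((center G).subgroupOf K))
  have heq : ∀ g : G, (orderOf g).Coprime n → g ∉ center G → cent g = center G ⊔ K := by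
    intro g hg hgZ
    have h1 : (center G ⊔ K).index ∣ n := by
      rw [← S.cl_eq_n hg hgZ]
      exact index_dvd_of_le (hle g hg hgZ)
    have h3 := relIndex_mul_index (le_sup_left : center G ≤ center G ⊔ K)
    have h2 := relIndex_mul_index (center_le_cent g)
    rw [← h2, show (cent g).index = n from S.cl_eq_n hg hgZ] at h3
    have h4 : n ∣ (center G ⊔ K).index :=
      hr.symm.dvd_of_dvd_mul_left ⟨_, h3.trans (mul_comm _ _)⟩
    have h5 := relIndex_mul_index (hle g hg hgZ)
    rw [show (cent g).index = n from S.cl_eq_n hg hgZ, Nat.dvd_antisymm h1 h4] at h5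
    exact le_antisymm (hle g hg hgZ)
      (relIndex_eq_one.1 ((mul_eq_right₀ (by have := S.hn; omega)).1 h5))
  have hx := heq x S.hxo S.x_notMem_center
  refine ⟨hx ▸ inferInstance, fun g hg => ?_, fun g hg hgZ => by rw [heq g hg hgZ, hx]⟩
  rw [hx]
  exact mem_sup_right (hmem g hg)

/-- An element of `C(x)` is central times an element of order prime to `n`. -/
theorem split_mem (S : Setup m n x) {v : G} (hv : v ∈ cent x) :
    ∃ a b : G, a ∈ center G ∧ (orderOf b).Coprime n ∧ v = a * b := by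
  obtain ⟨a, b, ha, -, hab, -, -, han, hbn⟩ := exists_split n v
  refine ⟨a, b, ?_, hbn, hab⟩
  by_contra haZ
  obtain ⟨q, c, e, hq, hqa, he, heo, heZ⟩ := Cfsg.Agent.PrimeParts.exists_part_not_mem haZ
  exact heZ (S.mem_center_of_comm S.hxo S.x_notMem_center hq (han q hq hqa) heo
    (mem_cent.1 (zpowers_le.2 hv (zpowers_le.2 ha he))).symm)

theorem abelian_C (S : Setup m n x) : ∀ v ∈ cent x, ∀ w ∈ cent x, v * w = w * v := by
  intro v hv w hw
  obtain ⟨a, b, haZ, hbn, rfl⟩ := S.split_mem hv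
  have h1 : Commute a w := (mem_center_iff.1 haZ w).symm
  by_cases hbZ : b ∈ center G
  · exact (h1.mul_left (mem_center_iff.1 hbZ w).symm).eq
  · exact (h1.mul_left (mem_cent.1 ((S.main_C.2.2 b hbn hbZ).symm ▸ hw))).eq

theorem pow_index_center_mem (S : Setup m n x) {c : G} (hc : c ∈ cent x) :
    c ^ (center G).relIndex (cent x) ∈ center G := by
  have h : ((⟨c, hc⟩ : cent x) ^ ((center G).subgroupOf (cent x)).index) ∈
      (center G).subgroupOf (cent x) := by
    rw [index_eq_card, ← QuotientGroup.eq_one_iff, QuotientGroup.mk_pow]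
    exact pow_card_eq_one'
  exact h

/-- If `c ∈ C(x)` moves a noncentral `p`-element of `C(y)` inside `C(y)`, it centralises it. -/
theorem commute_of_conj_mem (S : Setup m n x) {y c d : G} {p b : ℕ} (hy : cl y = m) (hpn : p ∣ n)
    (hd : orderOf d = p ^ b) (hdy : d ∈ cent y) (hc : c ∈ cent x) (hcd : c * d * c⁻¹ ∈ cent y) :
    c * d = d * c := by
  set z := c * d * c⁻¹ * d⁻¹ with hz
  have hCn := S.main_C.1
  have hzZ : z ∈ center G := by
    rw [← S.inf_eq_center hy]
    refine mem_inf.2 ⟨mul_mem hcd (inv_mem hdy), ?_⟩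
    rw [show z = c * (d * c⁻¹ * d⁻¹) by rw [hz]; group]
    exact mul_mem hc (hCn.conj_mem _ (inv_mem hc) d)
  have hk : ∀ k : ℕ, c ^ k * d * (c ^ k)⁻¹ = z ^ k * d := by
    intro k
    induction k with
    | zero => group
    | succ k ih =>
      rw [pow_succ' c, show c * c ^ k * d * (c * c ^ k)⁻¹ = c * (c ^ k * d * (c ^ k)⁻¹) * c⁻¹ by group,
        ih, show c * (z ^ k * d) * c⁻¹ = (c * z ^ k) * (d * c⁻¹) by group,
        mem_center_iff.1 (pow_mem hzZ k) c, pow_succ z, hz]
      group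
  have h1 : z ^ (center G).relIndex (cent x) = 1 := by
    have h := hk ((center G).relIndex (cent x))
    rw [(mem_center_iff.1 (S.pow_index_center_mem hc) d).symm, mul_inv_cancel_right] at h
    exact mul_eq_right.1 h.symm
  have h2 : z ^ orderOf d = 1 := by
    have h : (z * d) ^ orderOf d = 1 := by
      rw [hz, inv_mul_cancel_right, conj_pow, pow_orderOf_eq_one]
      group
    rwa [(show Commute z d from (mem_center_iff.1 hzZ d).symm).mul_pow, pow_orderOf_eq_one,
      mul_one] at h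
  have hco : ((center G).relIndex (cent x)).Coprime (orderOf d) := by
    rw [hd]
    exact ((S.coprime_relIndex S.hxo S.x_notMem_center).coprime_dvd_right hpn).pow_right b
  have hz1 : z = 1 := orderOf_eq_one_iff.1 (Nat.eq_one_of_dvd_coprimes hco
    (orderOf_dvd_of_pow_eq_one h1) (orderOf_dvd_of_pow_eq_one h2))
  calc c * d = z * (d * c) := by rw [hz]; group
    _ = d * c := by rw [hz1, one_mul]

theorem abelian_D (S : Setup m n x) {y : G} (hy : cl y = m) :
    ∀ v ∈ cent y, ∀ w ∈ cent y, v * w = w * v := by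
  intro v hv
  suffices h : v ∈ centralizer (cent y : Set G) from fun w hw => (mem_centralizer_iff.1 h w hw).symm
  by_contra hvc
  obtain ⟨q, b, e, hq, -, he, heo, hec⟩ := Cfsg.Agent.PrimeParts.exists_part_not_mem hvc
  have hey : e ∈ cent y := zpowers_le.2 hv he
  have heZ : e ∉ center G := fun h => hec (mem_centralizer_iff.2 fun w _ => mem_center_iff.1 h w)
  by_cases hqn : q ∣ n
  · refine hec (mem_centralizer_iff.2 fun σ hσ => ?_)
    have hm := S.cl_primePow hq hqn heo heZ
    have hco : (cl x).Coprime (cl e) := by rw [S.hx, hm]; exact S.hco.symm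
    obtain ⟨c, hc, δ, hδ, hσe⟩ := exists_mul_of_coprime hco σ
    have e1 : σ * e * σ⁻¹ = c * e * c⁻¹ := by
      calc σ * e * σ⁻¹ = c * (δ * e) * δ⁻¹ * c⁻¹ := by rw [hσe]; group
        _ = _ := by rw [← mem_cent.1 hδ]; group
    have hcomm := S.commute_of_conj_mem hy hqn heo hey hc
      (e1 ▸ mul_mem (mul_mem hσ hey) (inv_mem hσ))
    calc σ * e = c * (δ * e) := by rw [hσe]; group
      _ = (c * e) * δ := by rw [← mem_cent.1 hδ]; group
      _ = e * σ := by rw [hcomm, hσe]; group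
  · obtain ⟨p, k, w, hp, hpn, hwo, hwy⟩ := S.exists_wit hy
    have hco : (orderOf e).Coprime n := by
      rw [heo]
      exact (hq.coprime_iff_not_dvd.2 hqn).pow_left b
    have hwZ := S.mem_center_of_comm hco heZ hp hpn hwo (mem_cent.1 ((hwy.symm ▸ hey) : e ∈ cent w))
    have h1 := cl_eq_one.2 hwZ
    have h2 : cl w = m := by rw [← hy, cl, cl, hwy]
    have := S.hn; have := S.hmn
    omega

/-- A noncentral element of `C(y)` has a noncentral prime power part with centraliser `C(y)`. -/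
theorem exists_part_D (S : Setup m n x) {y d : G} (hy : cl y = m) (hd : d ∈ cent y)
    (hdZ : d ∉ center G) : ∃ (p b : ℕ) (e : G), p.Prime ∧ p ∣ n ∧ orderOf e = p ^ b ∧ e ∈ zpowers d ∧
      e ∈ cent y ∧ e ∉ center G ∧ cent e = cent y := by
  obtain ⟨p, b, e, hp, -, he, heo, heZ⟩ := Cfsg.Agent.PrimeParts.exists_part_not_mem hdZ
  have hey : e ∈ cent y := zpowers_le.2 hd he
  have hle : cent y ≤ cent e := fun w hw => mem_cent.2 (S.abelian_D hy e hey w hw)
  have hd' : cl e ∣ m := hy ▸ cl_dvd hle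
  have hm : cl e = m := (S.thmA (S.hco.coprime_dvd_left hd')).resolve_left fun h => heZ (cl_eq_one.1 h)
  refine ⟨p, b, e, hp, ?_, heo, he, hey, heZ, (eq_of_le_of_cl hle (by rw [hy, hm])).symm⟩
  by_contra hpn
  exact S.cl_ne_of_coprime (by rw [heo]; exact (hp.coprime_iff_not_dvd.2 hpn).pow_left b) hm

theorem cl_pos' (S : Setup m n x) {y : G} (hy : cl y = m) : cent y ≠ ⊤ := fun h => by
  have h1 : cl y = 1 := index_eq_one.2 h
  have := S.hn; have := S.hmn
  omega

/-- Conjugation back into `C(y)` only from `C(y)`. -/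
theorem mem_of_conj (S : Setup m n x) {y d g : G} (hy : cl y = m) (hd : d ∈ cent y)
    (hdZ : d ∉ center G) (hgd : g⁻¹ * d * g ∈ cent y) : g ∈ cent y := by
  have hco : (cl x).Coprime (cl y) := by rw [S.hx, hy]; exact S.hco.symm
  obtain ⟨c, hc, σ, hσ, hg⟩ := exists_mul_of_coprime hco g
  have hcd : c⁻¹ * d * c ∈ cent y := by
    rw [show c⁻¹ * d * c = σ * (g⁻¹ * d * g) * σ⁻¹ by rw [hg]; group]
    exact mul_mem (mul_mem hσ hgd) (inv_mem hσ)
  obtain ⟨p, b, e, -, hpn, heo, he, hey, -, heD⟩ := S.exists_part_D hy hd hdZ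
  have hce : c⁻¹ * e * c⁻¹⁻¹ ∈ cent y := by
    obtain ⟨i, rfl⟩ := mem_zpowers_iff.1 he
    rw [← conj_zpow, inv_inv]
    exact zpow_mem hcd i
  have hcomm := S.commute_of_conj_mem hy hpn heo hey (inv_mem hc) hce
  have hcy : c⁻¹ ∈ cent y := heD ▸ mem_cent.2 hcomm.symm
  rw [hg]
  exact mul_mem (inv_mem_iff.1 hcy) hσ

/-- Elements outside `C(x)` lie in conjugates of `C(y)`. -/
theorem exists_conj_of_notMem (S : Setup m n x) {y u : G} (hy : cl y = m) (hu : u ∉ cent x) :
    ∃ h : G, h⁻¹ * u * h ∈ cent y := by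
  obtain ⟨a, b, ha, -, hab, -, -, han, hbn⟩ := exists_split n u
  have haZ : a ∉ center G := fun h => hu (hab ▸ mul_mem (center_le_cent x h) (S.main_C.2.1 b hbn))
  obtain ⟨p, k, e, hp, hpa, he, heo, heZ⟩ := Cfsg.Agent.PrimeParts.exists_part_not_mem haZ
  have hpn := han p hp hpa
  obtain ⟨h, hh⟩ := exists_conj_mem (H := cent y) hp heo (by
    rw [show (cent y).index = m from hy]
    exact fun h' => hp.ne_one (Nat.eq_one_of_dvd_coprimes S.hco h' hpn))
  refine ⟨h, ?_⟩
  have hZ : h⁻¹ * e * h ∉ center G := fun hc => heZ (by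
    have h2 := (inferInstance : (center G).Normal).conj_mem _ hc h
    rwa [show h * (h⁻¹ * e * h) * h⁻¹ = e by group] at h2)
  obtain ⟨-, -, e', -, -, -, he', -, -, heD⟩ := S.exists_part_D hy hh hZ
  rw [← heD]
  refine cent_le_of_mem_zpowers he' ?_
  have hc : Commute e u := mem_cent.1 (cent_le_of_mem_zpowers (zpowers_le.2 ha he) (self_mem_cent u))
  refine mem_cent.2 ?_
  calc h⁻¹ * e * h * (h⁻¹ * u * h) = h⁻¹ * (e * u) * h := by group
    _ = h⁻¹ * u * h * (h⁻¹ * e * h) := by rw [hc.eq]; group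

end Setup

/-- The coprime part of a witness of class size `n` gives a `Setup`. -/
theorem exists_setup {m n : ℕ} {x y : G} (hmn : n < m) (hn : 1 < n) (hco : m.Coprime n)
    (htop : ∀ z : G, cl z ≤ m) (hsecond : ∀ z : G, cl z < m → cl z ≤ n) (hx : cl x = n)
    (hy : cl y = m) : ∃ x' : G, Setup m n x' ∧ cent x' = cent x := by
  obtain ⟨a, b, ha, -, hab, hcomm, hor, han, hbn⟩ := exists_split n x
  have hda : cl a ∣ n := hx ▸ cl_dvd (cent_le_of_mem_zpowers ha)
  have hco' : (cl a).Coprime (cl y) := by rw [hy]; exact hco.symm.coprime_dvd_left hda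
  obtain ⟨L, -, hL1, hL2, -, hL4⟩ := exists_stab hco'
    (le_antisymm (hy ▸ htop _) (cl_mul hco').2.2)
  have haZ : a ∈ center G := mem_center_of_stab (Nat.coprime_of_dvd fun q hq h1 h2 =>
    hq.ne_one (Nat.eq_one_of_dvd_coprimes hco ((h2.trans hL1).trans (dvd_of_eq hy)) (han q hq h1))) hL2 hL4
  have he : cent b = cent x := by
    rw [hab, cent_mul_coprime hcomm hor, index_eq_one.1 (cl_eq_one.2 haZ), top_inf_eq]
  refine ⟨b, ⟨hmn, hn, hco, htop, hsecond, ?_, hbn, ⟨y, hy⟩⟩, he⟩
  rw [cl, he]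
  exact hx

end Cfsg.Agent.ClassSize.CoprimeTop
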