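import Mathlib
import Cfsg.Agent.Lib.ClassSize.CoprimeTop
import Cfsg.Agent.Lib.Transfer.CentralizerCount
import Cfsg.Agent.Lib.PGroup.SCN
import Cfsg.Agent.S3993

/-!
# Groups with two class sizes

If all noncentral elements of `G` have class size `n > 1` then `n` is a prime power. The proof: if
two primes divide `n` then the centralisers of noncentral elements are abelian and partition
`G / Z(G)` into `K` parts of order `c`; Frobenius's theorem on the number of solutions of
`x ^ m = 1` bounds `n` below `c`, while `c - 1` divides `n - 1`.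
-/

set_option autoImplicit false
set_option linter.style.haveILetI false
set_option linter.unusedSectionVars false

namespace Cfsg.Agent.ClassSize.OneSize

open Subgroup Cfsg.Agent.ClassSize.CoprimeTop
open scoped Classical commutatorElement

variable {G : Type*} [Group G] [Finite G]

/-- A subgroup meeting every conjugacy class is everything. -/
theorem eq_top_of_forall_conj {H : Subgroup G} (h : ∀ g : G, ∃ k : G, k⁻¹ * g * k ∈ H) :
    H = ⊤ := by
  by_contra hne
  haveI := Fintype.ofFinite G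
  haveI : Fintype (G ⧸ H) := Fintype.ofFinite _
  have hpos : ∀ g : G, 1 ≤ Fintype.card (MulAction.fixedBy (G ⧸ H) g) := by
    intro g
    obtain ⟨k, hk⟩ := h g
    refine Fintype.card_pos_iff.mpr ⟨⟨(k : G ⧸ H), ?_⟩⟩
    show g • (k : G ⧸ H) = k
    rw [MulAction.Quotient.smul_coe, QuotientGroup.eq]
    have := inv_mem hk
    simpa [mul_assoc] using this
  have hone : 2 ≤ Fintype.card (MulAction.fixedBy (G ⧸ H) (1 : G)) := by
    rw [← Nat.card_eq_fintype_card,
      show MulAction.fixedBy (G ⧸ H) (1 : G) = Set.univ by ext; simp,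
      Nat.card_coe_set_eq, Set.ncard_univ]
    exact one_lt_index_of_ne_top hne
  have horb : Fintype.card (Quotient (MulAction.orbitRel G (G ⧸ H))) = 1 := by
    rw [Fintype.card_eq_one_iff]
    refine ⟨Quotient.mk'' ((1 : G) : G ⧸ H), fun q => ?_⟩
    induction q using Quotient.inductionOn' with
    | h a =>
      refine Quotient.sound' ?_
      exact MulAction.exists_smul_eq G _ a
  have hb := MulAction.sum_card_fixedBy_eq_card_orbits_mul_card_group G (G ⧸ H)
  rw [horb, one_mul, Fintype.card_eq_sum_ones (α := G)] at hb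
  have hlt := Finset.sum_lt_sum (s := (Finset.univ : Finset G)) (f := fun _ => 1)
    (g := fun g => Fintype.card (MulAction.fixedBy (G ⧸ H) g)) (fun g _ => hpos g)
    ⟨1, Finset.mem_univ _, hone⟩
  exact hlt.ne' hb

variable {n : ℕ} (h : ∀ x : G, cl x = 1 ∨ cl x = n)

include h

theorem cl_eq {x : G} (hx : x ∉ center G) : cl x = n :=
  (h x).resolve_left fun h1 => hx (cl_eq_one.1 h1)

theorem cent_eq {x y : G} (hle : cent x ≤ cent y) (hy : y ∉ center G) : cent x = cent y := by
  refine eq_of_le_of_cl hle ?_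
  have hx : x ∉ center G := fun hx => hy (cl_eq_one.1 (by
    rw [cl, index_eq_one, eq_top_iff, ← index_eq_one.1 (cl_eq_one.2 hx)]
    exact hle))
  rw [cl_eq h hx, cl_eq h hy]

/-- Elements of order a power of a prime not dividing `n` are central. -/
theorem mem_center_of_not_dvd {q : ℕ} [hq : Fact q.Prime] (hqn : ¬ q ∣ n) {d : G} {b : ℕ}
    (hd : orderOf d = q ^ b) : d ∈ center G := by
  have hdP : IsPGroup q (zpowers d) := IsPGroup.of_card (n := b) (by rw [Nat.card_zpowers, hd])
  obtain ⟨Q, hQ⟩ := hdP.exists_le_sylow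
  have htop : centralizer ((Q : Subgroup G) : Set G) = ⊤ := by
    refine eq_top_of_forall_conj fun g => ?_
    obtain ⟨R, hR⟩ := Transfer.exists_sylow_le_centralizer (p := q) g (by
      show ¬ q ∣ cl g
      rcases h g with h1 | h1 <;> rw [h1]
      · exact hq.out.not_dvd_one
      · exact hqn)
    obtain ⟨k, hk⟩ := MulAction.exists_smul_eq G Q R
    refine ⟨k, mem_centralizer_iff.mpr fun y hy => ?_⟩
    have h1 : k * y * k⁻¹ ∈ (R : Subgroup G) := by
      rw [← hk]
      exact smul_mem_pointwise_smul y (MulAut.conj k) (Q : Subgroup G) hy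
    have h2 : k * y * k⁻¹ * g = g * (k * y * k⁻¹) := mem_centralizer_singleton_iff.mp (hR h1)
    calc y * (k⁻¹ * g * k) = k⁻¹ * (k * y * k⁻¹ * g) * k := by group
      _ = k⁻¹ * g * k * y := by rw [h2]; group
  rw [centralizer_eq_top_iff_subset] at htop
  exact htop (hQ (mem_zpowers d))

/-- The index of the centre in a centraliser does not depend on the noncentral element. -/
theorem relIndex_eq {x y : G} (hx : x ∉ center G) (hy : y ∉ center G) :
    (center G).relIndex (cent x) = (center G).relIndex (cent y) := by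
  have h1 := relIndex_mul_index (center_le_cent x)
  have h2 := relIndex_mul_index (center_le_cent y)
  rw [show (cent x).index = n from cl_eq h hx] at h1
  rw [show (cent y).index = n from cl_eq h hy, ← h1] at h2
  exact (Nat.eq_of_mul_eq_mul_right ((cl_eq h hx) ▸ cl_pos x) h2).symm

/-- A prime divisor of `n` divides the index of the centre in a centraliser. -/
theorem dvd_relIndex {q : ℕ} [hq : Fact q.Prime] (hqn : q ∣ n) {x : G} (hx : x ∉ center G) :
    q ∣ (center G).relIndex (cent x) := by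
  by_contra hnd
  obtain ⟨Q⟩ := (inferInstance : Nonempty (Sylow q G))
  have hex : ∃ b ∈ (Q : Subgroup G), b ∉ center G := by
    by_contra! hall
    refine Q.not_dvd_index ?_
    have h1 := relIndex_mul_index (center_le_cent x)
    rw [show (cent x).index = n from cl_eq h hx] at h1
    exact (hqn.trans (h1 ▸ dvd_mul_left _ _ : n ∣ (center G).index)).trans (index_dvd_of_le hall)
  obtain ⟨b, hbQ, hb⟩ := hex
  obtain ⟨k, hk⟩ := Q.2 ⟨b, hbQ⟩
  have hbk : b ^ q ^ k = 1 := congrArg Subtype.val hk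
  haveI : ((center G).subgroupOf (cent b)).Normal := inferInstance
  have hpow : b ^ (center G).relIndex (cent b) ∈ center G := by
    have := pow_index_mem ((center G).subgroupOf (cent b)) ⟨b, self_mem_cent b⟩
    rwa [mem_subgroupOf] at this
  rw [relIndex_eq h hb hx] at hpow
  have hco : ((center G).relIndex (cent x)).Coprime (orderOf b) :=
    Nat.Coprime.coprime_dvd_right (orderOf_dvd_of_pow_eq_one hbk)
      (((hq.out.coprime_iff_not_dvd.mpr hnd).symm).pow_right k)
  obtain ⟨e, he⟩ := exists_pow_eq_self_of_coprime hco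
  exact hb (he ▸ pow_mem hpow e)

/-- A noncentral element has a noncentral power of prime power order. -/
theorem exists_primePow (x : G) (hx : x ∉ center G) :
    ∃ y ∈ zpowers x, y ∉ center G ∧ ∃ r b : ℕ, r.Prime ∧ orderOf y = r ^ b := by
  have hne : ∃ N, ∃ y ∈ zpowers x, y ∉ center G ∧ orderOf y = N := ⟨_, x, mem_zpowers x, hx, rfl⟩
  obtain ⟨y, hy, hyZ, hord⟩ := Nat.find_spec hne
  refine ⟨y, hy, hyZ, ?_⟩
  have h1 : orderOf y ≠ 1 := fun h1 => hyZ (by rw [orderOf_eq_one_iff.1 h1]; exact one_mem _)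
  have hr : (orderOf y).minFac.Prime := Nat.minFac_prime h1
  obtain ⟨a, b, ha, hb, hab, hcomm, hco, hpa, hpb⟩ := exists_split (orderOf y).minFac y
  have hsub : ∀ z ∈ zpowers y, z ∈ zpowers x := fun z hz => (zpowers_le.2 hy) hz
  have hmul : orderOf y = orderOf a * orderOf b := by
    rw [hab]; exact (show Commute a b from hcomm).orderOf_mul_eq_mul_orderOf_of_coprime hco
  by_cases hb1 : orderOf b = 1
  · refine ⟨(orderOf y).minFac, (orderOf y).primeFactorsList.length, hr, ?_⟩
    exact Nat.eq_prime_pow_of_unique_prime_dvd (orderOf_pos y).ne' fun {d} hd hdd =>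
      (Nat.prime_dvd_prime_iff_eq hd hr).1 (hpa d hd (by rwa [hmul, hb1, mul_one] at hdd))
  · exfalso
    have ha1 : 1 < orderOf a := by
      refine lt_of_not_ge fun hle => ?_
      have hone : orderOf a = 1 := le_antisymm hle (orderOf_pos a)
      exact hr.coprime_iff_not_dvd.1 hpb.symm (by
        have := Nat.minFac_dvd (orderOf y)
        rwa [hmul, hone, one_mul] at this ⊢)
    have hb2 : 1 < orderOf b := by have := orderOf_pos b; omega
    have haZ : a ∈ center G := by
      by_contra haZ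
      refine Nat.find_min hne (?_ : orderOf a < Nat.find hne) ⟨a, hsub a ha, haZ, rfl⟩
      rw [← hord, hmul]; exact lt_mul_of_one_lt_right (orderOf_pos a) hb2
    have hbZ : b ∈ center G := by
      by_contra hbZ
      refine Nat.find_min hne (?_ : orderOf b < Nat.find hne) ⟨b, hsub b hb, hbZ, rfl⟩
      rw [← hord, hmul]; exact lt_mul_of_one_lt_left (orderOf_pos b) ha1
    exact hyZ (hab ▸ mul_mem haZ hbZ)

/-- An element commuting with a noncentral element, of coprime order, is central in its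
centraliser. -/
theorem cent_le_of_coprime {a y : G} (ha : a ∉ center G) (hy : y ∈ cent a)
    (hco : (orderOf a).Coprime (orderOf y)) : cent a ≤ cent y := by
  by_cases hyZ : y ∈ center G
  · exact fun v _ => mem_cent.2 (mem_center_iff.1 hyZ v).symm
  · have h1 := cent_mul_coprime (mem_cent.1 hy) hco
    have h2 : cent (a * y) = cent a := cent_eq h (h1 ▸ inf_le_left) ha
    rw [← h2, h1]
    exact inf_le_right

/-- A noncentral centraliser contains a noncentral element of `q`-power order. -/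
theorem exists_noncentral_in_cent {q : ℕ} [hq : Fact q.Prime] (hqn : q ∣ n) {a : G}
    (ha : a ∉ center G) : ∃ b ∈ cent a, b ∉ center G ∧ ∃ k, orderOf b = q ^ k := by
  by_contra! hall
  obtain ⟨Q⟩ := (inferInstance : Nonempty (Sylow q (cent a)))
  refine Q.not_dvd_index ((dvd_relIndex h hqn ha).trans (index_dvd_of_le fun b hb => ?_))
  obtain ⟨k, hk⟩ := Q.2.exists_orderOf_eq_pow ⟨b, hb⟩
  rw [orderOf_mk, ← orderOf_coe] at hk
  rw [mem_subgroupOf]
  by_contra hbZ
  exact hall b b.2 hbZ k hk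

/-- With two primes dividing `n`, the centralisers of noncentral elements are abelian. -/
theorem cent_abelian {p q : ℕ} [hp : Fact p.Prime] [hq : Fact q.Prime] (hpn : p ∣ n) (hqn : q ∣ n)
    (hpq : p ≠ q) {x : G} (hx : x ∉ center G) :
    ∀ v ∈ cent x, ∀ w ∈ cent x, v * w = w * v := by
  obtain ⟨a, ha, haZ, r, e, hr, hae⟩ := exists_primePow h x hx
  have hxa : cent x = cent a := cent_eq h (cent_le_of_mem_zpowers ha) haZ
  rw [hxa]
  obtain ⟨s, hs, hsn, hrs⟩ : ∃ s, s.Prime ∧ s ∣ n ∧ r ≠ s := by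
    by_cases hrp : r = p
    · exact ⟨q, hq.out, hqn, hrp ▸ hpq⟩
    · exact ⟨p, hp.out, hpn, hrp⟩
  haveI := Fact.mk hs
  obtain ⟨b, hba, hbZ, k, hbk⟩ := exists_noncentral_in_cent h hsn haZ
  have hab : (orderOf a).Coprime (orderOf b) := by
    rw [hae, hbk]; exact Nat.Coprime.pow e k ((Nat.coprime_primes hr hs).2 hrs)
  have hca : cent a = cent b := cent_eq h (cent_le_of_coprime h haZ hba hab) hbZ
  intro v hv w hw
  suffices hz : cent a ≤ cent v from mem_cent.1 (hz hw)
  obtain ⟨v1, v2, h1, h2, hv12, -, -, hp1, hp2⟩ := exists_split r v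
  have hv1 : v1 ∈ cent a := zpowers_le.2 hv h1
  have hv2 : v2 ∈ cent a := zpowers_le.2 hv h2
  have e2 : cent a ≤ cent v2 := cent_le_of_coprime h haZ hv2 (hae ▸ hp2.symm.pow_left e)
  have e1 : cent a ≤ cent v1 := by
    rw [hca] at hv1 ⊢
    refine cent_le_of_coprime h hbZ hv1 ?_
    rw [hbk]
    refine Nat.Coprime.pow_left k ((hs.coprime_iff_not_dvd).2 fun hsv => hrs ?_)
    exact ((Nat.prime_dvd_prime_iff_eq hs hr).1 (hp1 s hs hsv)).symm
  intro g hg
  rw [hv12, mem_cent]
  exact ((show Commute v1 g from mem_cent.1 (e1 hg)).mul_left (mem_cent.1 (e2 hg))).eq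

omit h

/-- The number of solutions of `x ^ c₁ = 1` in an abelian group of order `c₁ c₂`, `(c₁, c₂) = 1`. -/
theorem card_pow_eq_one_abelian {A : Type*} [Group A] [Finite A]
    (hA : ∀ v w : A, v * w = w * v) {c₁ c₂ : ℕ} (hc : Nat.card A = c₁ * c₂)
    (hco : c₁.Coprime c₂) : Nat.card {v : A // v ^ c₁ = 1} = c₁ := by
  have h1 : c₁ ∣ Nat.card {v : A // v ^ c₁ = 1} := S3993.result c₁ ⟨c₂, hc⟩
  have h2 : c₂ ∣ Nat.card {v : A // v ^ c₂ = 1} := S3993.result c₂ ⟨c₁, by rw [hc, mul_comm]⟩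
  have hpos : ∀ m : ℕ, 0 < Nat.card {v : A // v ^ m = 1} := fun m =>
    Nat.card_pos_iff.2 ⟨⟨⟨1, one_pow m⟩⟩, inferInstance⟩
  have hinj : Nat.card {v : A // v ^ c₁ = 1} * Nat.card {v : A // v ^ c₂ = 1} ≤ Nat.card A := by
    rw [← Nat.card_prod]
    refine Nat.card_le_card_of_injective (fun z => z.1.1 * z.2.1) ?_
    rintro ⟨⟨a, ha⟩, ⟨b, hb⟩⟩ ⟨⟨a', ha'⟩, ⟨b', hb'⟩⟩ he
    have h3 : a'⁻¹ * a = b' * b⁻¹ := by
      rw [eq_mul_inv_iff_mul_eq, mul_assoc, inv_mul_eq_iff_eq_mul]
      exact he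
    have h4 : (a'⁻¹ * a) ^ c₁ = 1 := by
      rw [(show Commute a'⁻¹ a from hA _ _).mul_pow, inv_pow, ha', ha, inv_one, one_mul]
    have h5 : (a'⁻¹ * a) ^ c₂ = 1 := by
      rw [h3, (show Commute b' b⁻¹ from hA _ _).mul_pow, inv_pow, hb', hb, inv_one, one_mul]
    have h6 : a'⁻¹ * a = 1 := orderOf_eq_one_iff.1 (Nat.eq_one_of_dvd_coprimes hco
      (orderOf_dvd_of_pow_eq_one h4) (orderOf_dvd_of_pow_eq_one h5))
    rw [h6] at h3
    rw [inv_mul_eq_one] at h6
    have h7 : b' = b := mul_inv_eq_one.1 h3.symm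
    subst h6 h7
    rfl
  have hc2 : 0 < c₂ := by
    have h0 : 0 < Nat.card A := Nat.card_pos
    rw [hc] at h0
    exact Nat.pos_of_ne_zero fun h0' => by simp [h0'] at h0
  refine le_antisymm ?_ (Nat.le_of_dvd (hpos c₁) h1)
  refine Nat.le_of_mul_le_mul_right ?_ hc2
  calc _ ≤ Nat.card {v : A // v ^ c₁ = 1} * Nat.card {v : A // v ^ c₂ = 1} :=
        Nat.mul_le_mul_left _ (Nat.le_of_dvd (hpos c₂) h2)
    _ ≤ c₁ * c₂ := hinj.trans hc.le

include h

/-- **Itô.** With two class sizes `1` and `n`, the number `n` is a prime power. -/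
theorem not_two_primes {p : ℕ} [hp : Fact p.Prime] (hn1 : 1 < n) (hpn : p ∣ n)
    {q : ℕ} [hq : Fact q.Prime] (hqn : q ∣ n) (hpq : p ≠ q) {x₀ : G} (hx₀ : x₀ ∉ center G) :
    False := by
  set Z := center G with hZ
  set c := Z.relIndex (cent x₀) with hc
  have hab := fun {x : G} (hx : x ∉ center G) => cent_abelian h hpn hqn hpq hx
  have hg0 : Nat.card (G ⧸ Z) = c * n := by
    rw [← index_eq_card, ← relIndex_mul_index (center_le_cent x₀),
      show (cent x₀).index = n from cl_eq h hx₀]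
  have hout : ∀ g : G, cent ((g : G ⧸ Z).out) = cent g := by
    intro g
    obtain ⟨z, hz⟩ := QuotientGroup.mk_out_eq_mul Z g
    rw [hz]
    ext v
    rw [mem_cent, mem_cent, mul_assoc, ← mem_center_iff.1 z.2 v, ← mul_assoc, ← mul_assoc,
      mul_left_inj]
  haveI := Fintype.ofFinite (G ⧸ Z)
  let f : G ⧸ Z → Subgroup G := fun u => cent u.out
  set Qs : Finset (G ⧸ Z) := Finset.univ.erase 1 with hQs
  set I := Qs.image f with hI
  set K := I.card with hK
  have key : ∀ m c₁ c₂ : ℕ, c = c₁ * c₂ → c₁.Coprime c₂ → m.gcd c = c₁ →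
      Nat.card {u : G ⧸ Z // u ^ m = 1} = K * (c₁ - 1) + 1 := by
    intro m c₁ c₂ hcc hco hg
    rw [Nat.card_eq_fintype_card, Fintype.card_subtype]
    rw [← Finset.card_erase_add_one (a := (1 : G ⧸ Z)) (by simp)]
    congr 1
    have hmaps : ∀ u ∈ ((Finset.univ.filter fun u : G ⧸ Z => u ^ m = 1).erase 1), f u ∈ I :=
      fun u hu => Finset.mem_image_of_mem f (by
        simp only [hQs, Finset.mem_erase, Finset.mem_univ, and_true]
        exact (Finset.mem_erase.1 hu).1)
    rw [Finset.card_eq_sum_card_fiberwise hmaps]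
    rw [Finset.sum_const_nat (m := c₁ - 1)]
    intro C hC
    obtain ⟨u₁, hu₁, rfl⟩ := Finset.mem_image.1 hC
    obtain ⟨x, rfl⟩ := QuotientGroup.mk_surjective u₁
    have hx : x ∉ center G := fun hx' => (Finset.mem_erase.1 hu₁).1 ((QuotientGroup.eq_one_iff x).2 hx')
    simp only [f, hout]
    set A := (cent x).map (QuotientGroup.mk' Z) with hA
    have hAcard : Nat.card A = c₁ * c₂ := by
      rw [← hcc, hc, ← relIndex_eq h hx hx₀, ← relIndex_bot_left, ← QuotientGroup.map_mk'_self Z,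
        relIndex_map_map, QuotientGroup.ker_mk', sup_idem, sup_eq_left.mpr (center_le_cent x)]
    have hAcomm : ∀ v w : A, v * w = w * v := by
      rintro ⟨_, v, hv, rfl⟩ ⟨_, w, hw, rfl⟩
      refine Subtype.ext ?_
      show QuotientGroup.mk' Z v * QuotientGroup.mk' Z w = _
      rw [← map_mul, hab hx v hv w hw, map_mul]
      rfl
    have hiff : ∀ u : G ⧸ Z, u ≠ 1 → (cent u.out = cent x ↔ u ∈ A) := by
      intro u hu
      obtain ⟨g, rfl⟩ := QuotientGroup.mk_surjective u
      have hg : g ∉ center G := fun hg' => hu ((QuotientGroup.eq_one_iff g).2 hg')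
      rw [hout]
      constructor
      · exact fun he => ⟨g, he ▸ self_mem_cent g, rfl⟩
      · rintro ⟨g', hg', he⟩
        have hgg : g ∈ cent x := by
          have h1 : g'⁻¹ * g ∈ Z := by
            rw [QuotientGroup.mk'_apply] at he
            exact QuotientGroup.eq.1 he
          have := mul_mem hg' (center_le_cent x h1)
          rwa [mul_inv_cancel_left] at this
        exact (cent_eq h (fun v hv => mem_cent.2 (hab hx g hgg v hv)) hg).symm
    rw [Finset.filter_erase]
    have hset : ((Finset.univ.filter fun u : G ⧸ Z => u ^ m = 1).filter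
        fun u => cent u.out = cent x).erase 1 =
        ((Finset.univ.filter fun v : A => v ^ c₁ = 1).map (Function.Embedding.subtype _)).erase 1 := by
      ext u
      simp only [Finset.mem_erase, Finset.mem_filter, Finset.mem_univ, true_and, Finset.mem_map,
        Function.Embedding.coe_subtype]
      constructor
      · rintro ⟨hu, hum, huC⟩
        refine ⟨hu, ⟨u, (hiff u hu).1 huC⟩, ?_, rfl⟩
        have h1 : (⟨u, (hiff u hu).1 huC⟩ : A) ^ m = 1 := Subtype.ext hum
        have h2 : (⟨u, (hiff u hu).1 huC⟩ : A) ^ c = 1 := by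
          rw [hcc, ← hAcard]; exact pow_card_eq_one'
        rw [← hg]
        exact pow_gcd_eq_one.2 ⟨h1, h2⟩
      · rintro ⟨hu, ⟨v, hv⟩, hvc, rfl⟩
        refine ⟨hu, ?_, (hiff _ hu).2 hv⟩
        obtain ⟨e, he⟩ : c₁ ∣ m := hg ▸ Nat.gcd_dvd_left m c
        have h1 : v ^ c₁ = 1 := congrArg Subtype.val hvc
        rw [he, pow_mul, h1, one_pow]
    rw [hset, Finset.card_erase_of_mem (by
        simp only [Finset.mem_map, Finset.mem_filter, Finset.mem_univ, true_and,
          Function.Embedding.coe_subtype]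
        exact ⟨1, one_pow _, rfl⟩),
      Finset.card_map, ← Fintype.card_subtype, ← Nat.card_eq_fintype_card,
      card_pow_eq_one_abelian hAcomm hAcard hco]
  -- the arithmetic
  have hc0 : c ≠ 0 := index_ne_zero_of_finite
  obtain ⟨γ, c', hc', hcd⟩ := Nat.exists_eq_pow_mul_and_not_dvd hc0 p hp.out.ne_one
  obtain ⟨ν, n', hn', hnd⟩ := Nat.exists_eq_pow_mul_and_not_dvd (by omega : n ≠ 0) p hp.out.ne_one
  have hpc' : (p ^ γ).Coprime c' := (hp.out.coprime_iff_not_dvd.2 hc').pow_left γ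
  have hg0' : Nat.card (G ⧸ Z) = p ^ (γ + ν) * (c' * n') := by
    rw [hg0, hcd, hnd, pow_add]; ring
  have hall : Nat.card (G ⧸ Z) = K * (c - 1) + 1 := by
    rw [← key (Nat.card (G ⧸ Z)) c 1 (mul_one c).symm (Nat.coprime_one_right c)
      (Nat.gcd_eq_right ⟨n, hg0⟩)]
    exact Nat.card_congr (Equiv.subtypeUnivEquiv fun u => pow_card_eq_one').symm
  have hgcd1 : (p ^ (γ + ν)).gcd c = p ^ γ := by
    rw [hcd, pow_add, Nat.gcd_mul_left, Nat.Coprime.gcd_eq_one, mul_one]
    exact (hp.out.coprime_iff_not_dvd.2 hc').pow_left ν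
  have hgcd2 : (c' * n').gcd c = c' := by
    rw [hcd, mul_comm (p ^ γ), Nat.gcd_mul_left, Nat.Coprime.gcd_eq_one, mul_one]
    exact ((hp.out.coprime_iff_not_dvd.2 hn').pow_left γ).symm
  have hF1 := S3993.result (p ^ (γ + ν)) (hg0' ▸ dvd_mul_right _ _ : _ ∣ Nat.card (G ⧸ Z))
  rw [key _ _ c' hcd hpc' hgcd1] at hF1
  have hF2 := S3993.result (c' * n') (hg0' ▸ dvd_mul_left _ _ : _ ∣ Nat.card (G ⧸ Z))
  rw [key _ _ (p ^ γ) (hcd.trans (mul_comm _ _)) hpc'.symm hgcd2] at hF2
  have hγ1 : 1 ≤ p ^ γ := Nat.one_le_pow _ _ hp.out.pos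
  have hc'1 : 1 ≤ c' := Nat.pos_of_ne_zero fun h0 => hc' (h0 ▸ dvd_zero p)
  have hc1 : 1 ≤ c := by omega
  -- both parts of `c` are nontrivial
  have hγ2 : 2 ≤ p ^ γ := by
    rcases Nat.eq_zero_or_pos γ with rfl | hγ
    · exfalso
      rw [pow_zero, one_mul] at hcd
      exact hc' (hcd ▸ dvd_relIndex h hpn hx₀)
    · exact hp.out.two_le.trans (Nat.le_self_pow hγ.ne' p)
  have hc'2 : 2 ≤ c' := by
    have h1 : q ∣ p ^ γ * c' := hcd ▸ dvd_relIndex h hqn hx₀
    rcases hq.out.dvd_mul.1 h1 with h2 | h2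
    · exact absurd ((Nat.prime_dvd_prime_iff_eq hq.out hp.out).1 (hq.out.dvd_of_dvd_pow h2)).symm hpq
    · exact hq.out.two_le.trans (Nat.le_of_dvd (by omega) h2)
  have dvd_sub : ∀ (a a' b b' : ℕ), 1 ≤ a → 1 ≤ a' → a * b ∣ K * (a - 1) + 1 →
      a * b * (a' * b') = K * (a * a' - 1) + 1 → b ∣ a' - 1 := by
    intro a a' b b' ha ha' hd he
    have haa : 1 ≤ a * a' := Nat.one_le_iff_ne_zero.2 (Nat.mul_ne_zero (by omega) (by omega))
    rw [← Int.natCast_dvd_natCast] at hd ⊢
    push_cast [Nat.cast_sub ha, Nat.cast_sub ha'] at hd ⊢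
    have he' : (a : ℤ) * b * (a' * b') = K * (a * a' - 1) + 1 := by
      have := congrArg (Nat.cast : ℕ → ℤ) he
      push_cast [Nat.cast_sub haa] at this
      exact this
    obtain ⟨t, ht⟩ := hd
    have ha0 : (a : ℤ) ≠ 0 := by omega
    have hKd : (b : ℤ) ∣ K * ((a' : ℤ) - 1) := by
      refine ⟨(a' * b' : ℤ) - t, mul_left_cancel₀ ha0 ?_⟩
      linear_combination -ht - he'
    obtain ⟨s, hs⟩ := hKd
    refine ⟨a * t * ((a' : ℤ) - 1) - (a - 1) * s, ?_⟩
    linear_combination ((a' : ℤ) - 1) * ht - ((a : ℤ) - 1) * hs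
  have hν : p ^ ν ≤ c' - 1 := Nat.le_of_dvd (by omega)
    (dvd_sub (p ^ γ) c' (p ^ ν) n' hγ1 hc'1 (by rwa [← pow_add]) (by
      rw [← pow_add, ← hg0', hall, hcd]))
  have hν' : n' ≤ p ^ γ - 1 := Nat.le_of_dvd (by omega)
    (dvd_sub c' (p ^ γ) n' (p ^ ν) hc'1 hγ1 hF2 (by
      rw [mul_comm c' (p ^ γ), ← hcd, ← hall, hg0', pow_add]; ring))
  have hnlt : n < c := by
    rw [hnd, hcd]
    calc p ^ ν * n' ≤ (c' - 1) * (p ^ γ - 1) := Nat.mul_le_mul hν hν'
      _ ≤ (c' - 1) * p ^ γ := Nat.mul_le_mul_left _ (Nat.sub_le _ _)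
      _ < c' * p ^ γ := Nat.mul_lt_mul_of_pos_right (by omega) (by omega)
      _ = p ^ γ * c' := mul_comm _ _
  have hdiv : ((c : ℤ) - 1) ∣ (n : ℤ) - 1 := by
    refine ⟨(K : ℤ) - n, ?_⟩
    have := congrArg (Nat.cast : ℕ → ℤ) (hall.symm.trans hg0)
    push_cast [Nat.cast_sub hc1] at this
    linear_combination -this
  have := Int.le_of_dvd (by omega) hdiv
  omega

omit h

/-- In a `p`-group whose noncentral elements have incomparable centralisers, a maximal abelian
normal subgroup has quotient of exponent `p`. -/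
theorem exists_abelian_exponent {P : Type*} [Group P] [Finite P] {p : ℕ} [hp : Fact p.Prime]
    (hP : IsPGroup p P) (h : ∀ x y : P, cent x ≤ cent y → y ∉ center P → cent y ≤ cent x) :
    ∃ A : Subgroup P, A.Normal ∧ IsMulCommutative A ∧ ∀ y : P, y ^ p ∈ A := by
  obtain ⟨A, hAn, hAc, hAmax⟩ := PGroup.exists_maximal_abelian_normal (G := P)
  haveI := hAn
  have hCA := PGroup.centralizer_eq_of_maximal_abelian_normal hP hAc hAmax
  haveI : Group.IsNilpotent P := hP.isNilpotent
  refine ⟨A, hAn, hAc, fun x => ?_⟩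
  by_contra hxp
  have hZA : center P ≤ A := hCA ▸ center_le_centralizer (A : Set P)
  have hrev : cent (x ^ p) ≤ cent x :=
    h x (x ^ p) (cent_le_of_mem_zpowers (pow_mem (mem_zpowers x) p)) fun hc => hxp (hZA hc)
  suffices hall : ∀ k, ∀ a ∈ A, a ∈ Subgroup.upperCentralSeries P k → x * a = a * x by
    obtain ⟨k, hk⟩ := (inferInstance : Group.IsNilpotent P).nilpotent'
    refine hxp (pow_mem (hCA.le (mem_centralizer_iff.2 fun a ha => ?_)) p)
    exact (hall k a ha (hk ▸ mem_top a)).symm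
  intro k
  induction k with
  | zero =>
    intro a _ hk
    rw [Subgroup.upperCentralSeries_zero, mem_bot] at hk
    simp [hk]
  | succ k ih =>
    intro a ha hk
    set c := x * a * x⁻¹ * a⁻¹ with hcdef
    have hcA : c ∈ A := mul_mem (hAn.conj_mem a ha x) (inv_mem ha)
    have hck : c ∈ Subgroup.upperCentralSeries P k := by
      have h1 := Subgroup.mem_upperCentralSeries_succ_iff.1 hk x
      rw [commutatorElement_def] at h1
      have h2 := inv_mem h1
      simpa [hcdef, mul_assoc] using h2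
    have hxc : Commute x c := ih c hcA hck
    by_contra hne
    have hc1 : c ≠ 1 := fun h1 => hne (by
      rw [hcdef, mul_inv_eq_one, mul_inv_eq_iff_eq_mul] at h1; exact h1)
    obtain ⟨j, hj⟩ := hP.exists_orderOf_eq_pow c
    rcases j with _ | j
    · exact hc1 (orderOf_eq_one_iff.1 (by simpa using hj))
    set i := p ^ j with hi
    have hac : ∀ u ∈ A, ∀ v ∈ A, Commute u v := fun u hu v hv =>
      congrArg Subtype.val (hAc.is_comm.comm ⟨u, hu⟩ ⟨v, hv⟩)
    have hstep : x * a ^ i * x⁻¹ = c ^ i * a ^ i := by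
      rw [← conj_pow, show x * a * x⁻¹ = c * a by rw [hcdef, inv_mul_cancel_right],
        (hac c hcA a ha).mul_pow]
    have hiter : ∀ l : ℕ, x ^ l * a ^ i * (x ^ l)⁻¹ = (c ^ i) ^ l * a ^ i := by
      intro l
      induction l with
      | zero => simp
      | succ l ihl =>
        calc x ^ (l + 1) * a ^ i * (x ^ (l + 1))⁻¹
            = x * (x ^ l * a ^ i * (x ^ l)⁻¹) * x⁻¹ := by rw [pow_succ']; group
          _ = x * (c ^ i) ^ l * x⁻¹ * (x * a ^ i * x⁻¹) := by rw [ihl]; group
          _ = (c ^ i) ^ l * (c ^ i * a ^ i) := by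
              rw [hstep, ((hxc.pow_right i).pow_right l).eq, mul_inv_cancel_right]
          _ = (c ^ i) ^ (l + 1) * a ^ i := by rw [pow_succ, mul_assoc]
    have hp1 : (c ^ i) ^ p = 1 := by
      rw [← pow_mul, hi, ← pow_succ, ← hj, pow_orderOf_eq_one]
    have hmem : a ^ i ∈ cent (x ^ p) := mem_cent.2 (by
      have := hiter p
      rw [hp1, one_mul, mul_inv_eq_iff_eq_mul] at this
      exact this)
    have hxa := mem_cent.1 (hrev hmem)
    have hci : c ^ i = 1 := by
      have : c ^ i * a ^ i = a ^ i := by rw [← hstep, hxa, mul_inv_cancel_right]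
      exact mul_eq_right.1 this
    have h1 := orderOf_dvd_of_pow_eq_one hci
    rw [hj, hi, Nat.pow_dvd_pow_iff_le_right hp.out.one_lt] at h1
    omega

end Cfsg.Agent.ClassSize.OneSize
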