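import Mathlib
import Cfsg.Agent.Lib.ClassSize.CoprimeTop
import Cfsg.Agent.Lib.ClassSize.OneSize
import Cfsg.Agent.Lib.Transfer.CentralizerCount

/-!
Prime graphs of class sizes have diameter at most three.

The class sizes are those of a set `S` of allowed elements. Let `m` be the largest one. A prime is
*near* if some allowed class size divisible by it shares a prime with `m`. If all vertices are
near, the diameter is at most three. Otherwise some allowed class size `a` is coprime to `m`, all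
vertices divide `a` or `m`, and one edge between the two sides suffices.
-/

set_option autoImplicit false
set_option linter.unusedSectionVars false
set_option linter.style.haveILetI false

namespace Cfsg.Agent.ClassSize.Diameter

open Subgroup Cfsg.Agent.ClassSize.CoprimeTop

variable {G : Type*} [Group G] [Finite G]

/-- A vertex of the graph of class sizes of the elements satisfying `S`. -/
def Vert (S : G → Prop) (r : ℕ) : Prop := r.Prime ∧ ∃ g, S g ∧ r ∣ cl g

/-- An edge of the graph. -/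
def Edge (S : G → Prop) (r s : ℕ) : Prop := ∃ g, S g ∧ r * s ∣ cl g

/-- A path with at most three edges, all of whose vertices differ. -/
def Path (S : G → Prop) (r s : ℕ) : Prop :=
  Edge S r s ∨ (∃ t, Vert S t ∧ t ≠ r ∧ t ≠ s ∧ Edge S r t ∧ Edge S t s) ∨
    ∃ t u, Vert S t ∧ Vert S u ∧ t ≠ r ∧ u ≠ s ∧ t ≠ u ∧ t ≠ s ∧ u ≠ r ∧
      Edge S r t ∧ Edge S t u ∧ Edge S u s

theorem edge_of {S : G → Prop} {r s : ℕ} {g : G} (hr : r.Prime) (hs : s.Prime) (h : r ≠ s)
    (hg : S g) (hrg : r ∣ cl g) (hsg : s ∣ cl g) : Edge S r s :=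
  ⟨g, hg, ((Nat.coprime_primes hr hs).2 h).mul_dvd_of_dvd_of_dvd hrg hsg⟩

/-- An element whose prime power elements all lie in `K` lies in `K`. -/
theorem mem_of_primePow {K : Subgroup G} {z : G}
    (h : ∀ (r b : ℕ) (t : G), r.Prime → t ∈ zpowers z → r ∣ orderOf z → orderOf t = r ^ b → t ∈ K) :
    z ∈ K := by
  by_contra hz
  obtain ⟨r, b, t, hr, hrd, ht, hto, htK⟩ := Cfsg.Agent.PrimeParts.exists_part_not_mem hz
  exact htK (h r b t hr ht hrd hto)

theorem mem_center_of_conj {t h : G} (ht : h⁻¹ * t * h ∈ center G) : t ∈ center G := by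
  have h1 := Subgroup.Normal.conj_mem (inferInstance : (center G).Normal) _ ht h
  rwa [show h * (h⁻¹ * t * h) * h⁻¹ = t by group] at h1

theorem orderOf_conj' (t h : G) : orderOf (h⁻¹ * t * h) = orderOf t := by
  have h1 := orderOf_injective (MulAut.conj h⁻¹).toMonoidHom (MulAut.conj h⁻¹).injective t
  simpa [MulAut.conj_apply] using h1

theorem cl_conj' (t h : G) : cl (h⁻¹ * t * h) = cl t := by
  simpa using cl_conj t h⁻¹

/-- If every element of prime power order `s ^ b` is central, `s` divides no class size. -/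
theorem not_dvd_cl {s : ℕ} [hs : Fact s.Prime]
    (h : ∀ (b : ℕ) (t : G), orderOf t = s ^ b → t ∈ center G) (g : G) : ¬ s ∣ cl g := by
  obtain ⟨P⟩ := (inferInstance : Nonempty (Sylow s G))
  intro hd
  refine P.not_dvd_index (hd.trans (index_dvd_of_le fun t ht => ?_))
  obtain ⟨b, hb⟩ := IsPGroup.iff_orderOf.1 P.2 ⟨t, ht⟩
  rw [orderOf_mk] at hb
  exact center_le_cent g (h b t hb)

/-- The data: an allowed element `y` of largest class size. -/
structure Setup (S : G → Prop) (y : G) : Prop where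
  hy : S y
  le : ∀ g, S g → cl g ≤ cl y
  hprod : ∀ (t : G) (r b : ℕ), r.Prime → orderOf t = r ^ b → t * y = y * t →
    S (t * y) ∨ cl t ∣ cl y
  hcent : ∀ a b : G, a * b = b * a → (orderOf a).Coprime (orderOf b) → b ∈ center G →
    S (a * b) → S a
  hmul : ∀ a b : G, a * b = b * a → (orderOf a).Coprime (orderOf b) → S a → S (a * b)

namespace Setup

variable {S : G → Prop} {y : G}

theorem near_path (E : Setup S y) {r s : ℕ} (hr : r.Prime) (hs : s.Prime) (hrs : r ≠ s)
    (h1 : ∃ g, S g ∧ r ∣ cl g ∧ ¬ (cl g).Coprime (cl y))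
    (h2 : ∃ g, S g ∧ s ∣ cl g ∧ ¬ (cl g).Coprime (cl y)) : Path S r s := by
  obtain ⟨g, hg, hrg, hgy⟩ := h1
  obtain ⟨g', hg', hsg', hgy'⟩ := h2
  obtain ⟨a, ha, hag, hay⟩ := Nat.Prime.not_coprime_iff_dvd.1 hgy
  obtain ⟨b, hb, hbg, hby⟩ := Nat.Prime.not_coprime_iff_dvd.1 hgy'
  by_cases hc : s ∣ cl g
  · exact Or.inl (edge_of hr hs hrs hg hrg hc)
  by_cases hc' : r ∣ cl g'
  · exact Or.inl (edge_of hr hs hrs hg' hc' hsg')
  have has : a ≠ s := fun e => hc (e ▸ hag)
  have hbr : b ≠ r := fun e => hc' (e ▸ hbg)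
  rcases eq_or_ne a r with har | har
  · subst har
    rcases eq_or_ne b s with hbs | hbs
    · subst hbs
      exact Or.inl (edge_of hr hs hrs E.hy hay hby)
    · exact Or.inr (Or.inl ⟨b, ⟨hb, y, E.hy, hby⟩, hbr, hbs,
        edge_of hr hb hbr.symm E.hy hay hby, edge_of hb hs hbs hg' hbg hsg'⟩)
  rcases eq_or_ne b s with hbs | hbs
  · subst hbs
    exact Or.inr (Or.inl ⟨a, ⟨ha, g, hg, hag⟩, har, has,
      edge_of hr ha har.symm hg hrg hag, edge_of ha hs has E.hy hay hby⟩)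
  rcases eq_or_ne a b with hab | hab
  · subst hab
    exact Or.inr (Or.inl ⟨a, ⟨ha, g, hg, hag⟩, har, has,
      edge_of hr ha har.symm hg hrg hag, edge_of ha hs has hg' hbg hsg'⟩)
  exact Or.inr (Or.inr ⟨a, b, ⟨ha, g, hg, hag⟩, ⟨hb, g', hg', hbg⟩, har, hbs, hab, has, hbr,
    edge_of hr ha har.symm hg hrg hag, edge_of ha hb hab E.hy hay hby,
    edge_of hb hs hbs hg' hbg hsg'⟩)

/-- A prime power element with class size prime to `m`, of order prime to `m`, is central. -/
theorem mem_center_of_coprime (E : Setup S y) {t : G} {r b : ℕ} (hr : r.Prime)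
    (ht : orderOf t = r ^ b) (hry : ¬ r ∣ cl y) (hco : (cl t).Coprime (cl y)) :
    t ∈ center G := by
  obtain ⟨h, hh⟩ := exists_conj_mem (H := cent y) hr ht hry
  refine mem_center_of_conj (h := h) ?_
  have ht' : orderOf (h⁻¹ * t * h) = r ^ b := by rw [orderOf_conj', ht]
  have hcl : cl (h⁻¹ * t * h) = cl t := cl_conj' t h
  generalize h⁻¹ * t * h = u at hh ht' hcl ⊢
  have hco' : (cl u).Coprime (cl y) := by rw [hcl]; exact hco
  rcases E.hprod u r b hr ht' (mem_cent.1 hh).symm with hS | hd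
  · obtain ⟨-, -, h3⟩ := cl_mul hco'
    obtain ⟨L, -, hL1, hL2, -, hL4⟩ := exists_stab hco' (le_antisymm (E.le _ hS) h3)
    refine mem_center_of_stab ?_ hL2 hL4
    rw [ht']
    exact ((hr.coprime_iff_not_dvd.2 hry).pow_left b).coprime_dvd_right hL1
  · exact cl_eq_one.1 (Nat.eq_one_of_dvd_coprimes hco' dvd_rfl hd)

/-- The element behind a vertex that is not near may be taken of order supported by `m`. -/
theorem exists_far (E : Setup S y) {q : ℕ} (hqx : ∃ x, S x ∧ q ∣ cl x)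
    (hq : ∀ g, S g → q ∣ cl g → (cl g).Coprime (cl y)) :
    ∃ x, S x ∧ q ∣ cl x ∧ (cl x).Coprime (cl y) ∧
      ∀ r : ℕ, r.Prime → r ∣ orderOf x → r ∣ cl y := by
  obtain ⟨x, hx, hqx⟩ := hqx
  obtain ⟨a, b, -, hbz, hab, hcomm, hco, han, hbn⟩ := exists_split (cl y) x
  have hb : b ∈ center G := by
    refine mem_of_primePow fun r e t hr ht hrd hto => ?_
    refine E.mem_center_of_coprime hr hto
      (fun hd => Nat.Prime.not_coprime_iff_dvd.2 ⟨r, hr, hrd, hd⟩ hbn)
      ((hq x hx hqx).coprime_dvd_left (cl_dvd (cent_le_of_mem_zpowers (zpowers_le.2 hbz ht))))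
  have hc : cl a = cl x := by
    have h1 : cent b = ⊤ := eq_top_iff.2 fun v _ =>
      cent_comm.1 (center_le_cent v hb)
    have h2 : cent x = cent a := by rw [hab, cent_mul_coprime hcomm hco, h1, inf_top_eq]
    rw [cl, cl, h2]
  exact ⟨a, E.hcent a b hcomm hco hb (hab ▸ hx), hc ▸ hqx, hc ▸ hq x hx hqx, han⟩

/-- With a far element `x`, every prime of a class size divides `cl x` or `m`. -/
theorem dvd_or_dvd (E : Setup S y) {q : ℕ} {x : G} (hx : S x) (hqx : q ∣ cl x)
    (hq : ∀ g, S g → q ∣ cl g → (cl g).Coprime (cl y))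
    (hxo : ∀ r : ℕ, r.Prime → r ∣ orderOf x → r ∣ cl y) {s : ℕ} (hs : s.Prime) {g : G}
    (hsg : s ∣ cl g) : s ∣ cl x ∨ s ∣ cl y := by
  by_contra hcon
  push Not at hcon
  haveI : Fact s.Prime := ⟨hs⟩
  refine not_dvd_cl (fun b t ht => ?_) g hsg
  obtain ⟨h, hh⟩ := exists_conj_mem (H := cent x) hs ht hcon.1
  refine mem_center_of_conj (h := h) ?_
  have ht' : orderOf (h⁻¹ * t * h) = s ^ b := by rw [orderOf_conj', ht]
  generalize h⁻¹ * t * h = u at hh ht' ⊢
  have hco : (orderOf x).Coprime (orderOf u) := by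
    rw [ht']
    exact ((hs.coprime_iff_not_dvd.2 fun hd => hcon.2 (hxo s hs hd)).pow_left b).symm
  have hc : x * u = u * x := mem_cent.1 hh
  have he := cent_mul_coprime hc hco
  have h1 : cl x ∣ cl (x * u) := cl_dvd (he.trans_le inf_le_left)
  have h2 : cl u ∣ cl (x * u) := cl_dvd (he.trans_le inf_le_right)
  exact E.mem_center_of_coprime hs ht' hcon.2
    ((hq _ (E.hmul x u hc hco hx) (hqx.trans h1)).coprime_dvd_left h2)

/-- Main criterion: it is enough to find an edge leaving the primes of `m`. -/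
theorem path (E : Setup S y)
    (hbridge : ∀ x q, S x → q.Prime → q ∣ cl x → (cl x).Coprime (cl y) →
      (∀ g, S g → q ∣ cl g → (cl g).Coprime (cl y)) →
      (∀ r : ℕ, r.Prime → r ∣ orderOf x → r ∣ cl y) →
      ∃ g c d, S g ∧ c.Prime ∧ d.Prime ∧ c ∣ cl g ∧ d ∣ cl g ∧ ¬ c ∣ cl y ∧ d ∣ cl y)
    {r s : ℕ} (hr : Vert S r) (hs : Vert S s) (hrs : r ≠ s) : Path S r s := by
  by_cases hall : ∀ q, Vert S q → ∃ g, S g ∧ q ∣ cl g ∧ ¬ (cl g).Coprime (cl y)
  · exact E.near_path hr.1 hs.1 hrs (hall r hr) (hall s hs)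
  push Not at hall
  obtain ⟨q, hqV, hq⟩ := hall
  obtain ⟨x, hx, hqx, hxy, hxo⟩ := E.exists_far hqV.2 hq
  obtain ⟨g, c, d, hg, hc, hd, hcg, hdg, hcy, hdy⟩ := hbridge x q hx hqV.1 hqx hxy hq hxo
  have hcx : c ∣ cl x := (E.dvd_or_dvd hx hqx hq hxo hc hcg).resolve_right hcy
  have key : ∀ r s : ℕ, r.Prime → s.Prime → r ≠ s → r ∣ cl x → s ∣ cl y → Path S r s := by
    intro r s hr hs hrs hrx hsy
    have hnd : ∀ e : ℕ, e.Prime → e ∣ cl x → ¬ e ∣ cl y := fun e he h1 h2 =>
      Nat.Prime.not_coprime_iff_dvd.2 ⟨e, he, h1, h2⟩ hxy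
    have hcs : c ≠ s := fun e => hcy (e ▸ hsy)
    have hdr : d ≠ r := fun e => hnd r hr hrx (e ▸ hdy)
    have hcd : c ≠ d := fun e => hcy (e ▸ hdy)
    rcases eq_or_ne c r with hcr | hcr
    · subst hcr
      rcases eq_or_ne d s with hds | hds
      · subst hds
        exact Or.inl (edge_of hr hs hrs hg hcg hdg)
      · exact Or.inr (Or.inl ⟨d, ⟨hd, g, hg, hdg⟩, hdr, hds,
          edge_of hr hd hdr.symm hg hcg hdg, edge_of hd hs hds E.hy hdy hsy⟩)
    rcases eq_or_ne d s with hds | hds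
    · subst hds
      exact Or.inr (Or.inl ⟨c, ⟨hc, g, hg, hcg⟩, hcr, hcs,
        edge_of hr hc hcr.symm hx hrx hcx, edge_of hc hs hcs hg hcg hdg⟩)
    exact Or.inr (Or.inr ⟨c, d, ⟨hc, g, hg, hcg⟩, ⟨hd, g, hg, hdg⟩, hcr, hds, hcd, hcs, hdr,
      edge_of hr hc hcr.symm hx hrx hcx, edge_of hc hd hcd hg hcg hdg,
      edge_of hd hs hds E.hy hdy hsy⟩)
  obtain ⟨gr, hgr, hrgr⟩ := hr.2
  obtain ⟨gs, hgs, hsgs⟩ := hs.2
  rcases E.dvd_or_dvd hx hqx hq hxo hr.1 hrgr with h1 | h1 <;>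
    rcases E.dvd_or_dvd hx hqx hq hxo hs.1 hsgs with h2 | h2
  · exact Or.inl (edge_of hr.1 hs.1 hrs hx h1 h2)
  · exact key r s hr.1 hs.1 hrs h1 h2
  · have hp := key s r hs.1 hr.1 hrs.symm h2 h1
    have hsym : ∀ {a b : ℕ}, Edge S a b → Edge S b a := fun {a b} h => by
      obtain ⟨z, hz, hzd⟩ := h
      exact ⟨z, hz, mul_comm a b ▸ hzd⟩
    rcases hp with hp | ⟨t, ht, ht1, ht2, e1, e2⟩ | ⟨t, u, ht, hu, h3, h4, h5, h6, h7, e1, e2, e3⟩
    · exact Or.inl (hsym hp)
    · exact Or.inr (Or.inl ⟨t, ht, ht2, ht1, hsym e2, hsym e1⟩)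
    · exact Or.inr (Or.inr ⟨u, t, hu, ht, h4, h3, h5.symm, h7, h6, hsym e3, hsym e2, hsym e1⟩)
  · exact Or.inl (edge_of hr.1 hs.1 hrs E.hy h1 h2)

end Setup

/-- The elements of order divisible by `p`. -/
def Sing (p : ℕ) (g : G) : Prop := p ∣ orderOf g

variable {p : ℕ} [hp : Fact p.Prime]

theorem not_dvd_of_mem_center (hZ : ¬ p ∣ Nat.card (center G)) {g : G} (hg : g ∈ center G) :
    ¬ p ∣ orderOf g := fun h =>
  hZ (h.trans (orderOf_dvd_natCard (center G) hg))

theorem sing_setup (hZ : ¬ p ∣ Nat.card (center G)) {y : G} (hy : Sing p y)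
    (hle : ∀ g : G, Sing p g → cl g ≤ cl y) : Setup (Sing p) y where
  hy := hy
  le := hle
  hprod t r b hr ht hc := by
    by_cases hk : p ∣ orderOf (t * y)
    · exact Or.inl hk
    refine Or.inr (cl_dvd (cent_le_of_mem_zpowers ?_))
    set k := orderOf (t * y) with hkdef
    have h1 : t ^ k * y ^ k = 1 := by
      rw [← (show Commute t y from hc).mul_pow, hkdef, pow_orderOf_eq_one]
    have hrp : r = p := by
      have h2 : y ^ (k * r ^ b) = 1 := by
        rw [pow_mul, eq_inv_of_mul_eq_one_right h1, inv_pow, ← pow_mul, mul_comm, pow_mul, ← ht,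
          pow_orderOf_eq_one, one_pow, inv_one]
      rcases hp.out.dvd_mul.1 (hy.trans (orderOf_dvd_of_pow_eq_one h2)) with h3 | h3
      · exact absurd h3 hk
      · exact ((Nat.prime_dvd_prime_iff_eq hp.out hr).1 (hp.out.dvd_of_dvd_pow h3)).symm
    have hcop : k.Coprime (orderOf t) := by
      rw [ht, hrp]
      exact ((hp.out.coprime_iff_not_dvd.2 hk).pow_left b).symm
    obtain ⟨e, he⟩ := exists_pow_eq_self_of_coprime hcop
    rw [← he, eq_inv_of_mul_eq_one_left h1]
    exact pow_mem (inv_mem (pow_mem (mem_zpowers y) k)) e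
  hcent a b hc hco hb hab := by
    rw [Sing, Commute.orderOf_mul_eq_mul_orderOf_of_coprime hc hco] at hab
    exact (hp.out.dvd_mul.1 hab).resolve_right (not_dvd_of_mem_center hZ hb)
  hmul a b hc hco ha := by
    rw [Sing, Commute.orderOf_mul_eq_mul_orderOf_of_coprime hc hco]
    exact dvd_mul_of_dvd_left ha _

/-- The `p`-part of a `p`-singular element. -/
theorem exists_pPart {x : G} (hx : Sing p x) : ∃ v : G, ∃ b : ℕ, orderOf v = p ^ b ∧ v ≠ 1 ∧
    cent x ≤ cent v := by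
  obtain ⟨a, b, ha, -, hab, hc, hco, han, hbn⟩ := exists_split p x
  refine ⟨a, _, Nat.eq_prime_pow_of_unique_prime_dvd (orderOf_pos a).ne' fun {d} hd h =>
    (Nat.prime_dvd_prime_iff_eq hd hp.out).1 (han d hd h), ?_, cent_le_of_mem_zpowers ha⟩
  rintro rfl
  rw [one_mul] at hab
  exact hp.out.coprime_iff_not_dvd.1 hbn.symm (hab ▸ hx)

theorem sing_of_pPow {h : G} {b : ℕ} (hh : orderOf h = p ^ b) (h1 : h ≠ 1) : Sing p h := by
  rw [Sing, hh]
  refine dvd_pow_self p fun e => h1 ?_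
  rw [← orderOf_eq_one_iff, hh, e, pow_zero]

theorem one_lt_cl (hZ : ¬ p ∣ Nat.card (center G)) {h : G} {b : ℕ} (hh : orderOf h = p ^ b)
    (h1 : h ≠ 1) : 1 < cl h := by
  by_contra hlt
  have := cl_pos h
  exact not_dvd_of_mem_center hZ (cl_eq_one.1 (by omega)) (sing_of_pPow hh h1)

/-- For `p`-singular elements there is always an edge leaving the primes of `m`. -/
theorem sing_bridge (hZ : ¬ p ∣ Nat.card (center G)) {y x : G}
    (E : Setup (Sing p) y) (hx : Sing p x) (hxy : (cl x).Coprime (cl y))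
    (hxo : ∀ r : ℕ, r.Prime → r ∣ orderOf x → r ∣ cl y) :
    ∃ (g : G) (c d : ℕ), Sing p g ∧ c.Prime ∧ d.Prime ∧ c ∣ cl g ∧ d ∣ cl g ∧ ¬ c ∣ cl y ∧ d ∣ cl y := by
  by_contra hno
  have pure : ∀ g : G, Sing p g →
      (cl g).Coprime (cl y) ∨ ∀ c : ℕ, c.Prime → c ∣ cl g → c ∣ cl y := by
    intro g hg
    by_contra hcon
    push Not at hcon
    obtain ⟨hgy, c, hc, hcg, hcy⟩ := hcon
    obtain ⟨d, hd, hdg, hdy⟩ := Nat.Prime.not_coprime_iff_dvd.1 hgy
    exact hno ⟨g, c, d, hg, hc, hd, hcg, hdg, hcy, hdy⟩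
  have hpm : p ∣ cl y := hxo p hp.out hx
  obtain ⟨v, bv, hv, hv1, hxv⟩ := exists_pPart (p := p) hx
  obtain ⟨f, bf, hf, hf1, hyf⟩ := exists_pPart (p := p) E.hy
  have hvm : (cl v).Coprime (cl y) := hxy.coprime_dvd_left (cl_dvd hxv)
  have hfm : cl f ∣ cl y := cl_dvd hyf
  have hv2 := one_lt_cl hZ hv hv1
  have hf2 := one_lt_cl hZ hf hf1
  -- a class size that is a multiple of `cl v` is coprime to `m`
  have hmv : ∀ g : G, Sing p g → cl v ∣ cl g → (cl g).Coprime (cl y) := by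
    intro g hg hd
    refine (pure g hg).resolve_right fun hall => ?_
    obtain ⟨c, hc, hcv⟩ := Nat.exists_prime_and_dvd hv2.ne'
    exact Nat.Prime.not_coprime_iff_dvd.2 ⟨c, hc, hcv, hall c hc (hcv.trans hd)⟩ hvm
  have hcomm : ∀ (a : G) (r e : ℕ) (t : G), Sing p a → orderOf a ∣ p ^ e → t ∈ cent a →
      r.Prime → r ≠ p → (∃ k, orderOf t = r ^ k) →
      Sing p (a * t) ∧ cl a ∣ cl (a * t) ∧ cl t ∣ cl (a * t) := by
    intro a r e t ha hae hta hr hrp hto
    obtain ⟨k, hk⟩ := hto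
    have hco : (orderOf a).Coprime (orderOf t) := by
      rw [hk]
      exact (((Nat.coprime_primes hp.out hr).2 hrp.symm).pow e k).coprime_dvd_left hae
    have he := cent_mul_coprime (mem_cent.1 hta) hco
    exact ⟨E.hmul a t (mem_cent.1 hta) hco ha, cl_dvd (he.trans_le inf_le_left),
      cl_dvd (he.trans_le inf_le_right)⟩
  -- `m` is a power of `p`
  have hmp : ∀ r : ℕ, r.Prime → r ∣ cl y → r = p := by
    intro r hr hry
    by_contra hrp
    haveI : Fact r.Prime := ⟨hr⟩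
    refine not_dvd_cl (fun b t ht => ?_) y hry
    have hrv : ¬ r ∣ cl v := fun h => Nat.Prime.not_coprime_iff_dvd.2 ⟨r, hr, h, hry⟩ hvm
    obtain ⟨h, hh⟩ := exists_conj_mem (H := cent v) hr ht hrv
    obtain ⟨hS, hd1, hd2⟩ := hcomm v r bv (h⁻¹ * t * h) (sing_of_pPow hv hv1) hv.dvd hh hr hrp
      ⟨b, by rw [orderOf_conj', ht]⟩
    have htm : (cl t).Coprime (cl y) := by
      rw [← cl_conj' t h]
      exact (hmv _ hS hd1).coprime_dvd_left hd2
    have hpt : ¬ p ∣ cl t := fun h => Nat.Prime.not_coprime_iff_dvd.2 ⟨p, hp.out, h, hpm⟩ htm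
    obtain ⟨k, hk⟩ := exists_conj_mem (H := cent t) hp.out hf hpt
    obtain ⟨hS', hd1', hd2'⟩ := hcomm (k⁻¹ * f * k) r bf t
      (sing_of_pPow (b := bf) (by rw [orderOf_conj', hf]) fun e => hf1 (by
        rw [show f = k * (k⁻¹ * f * k) * k⁻¹ by group, e]; group))
      (by rw [orderOf_conj', hf]) (cent_comm.1 hk) hr hrp ⟨b, ht⟩
    rw [cl_conj'] at hd1'
    have hnc : ¬ (cl (k⁻¹ * f * k * t)).Coprime (cl y) := fun h =>
      hf2.ne' (Nat.eq_one_of_dvd_coprimes h hd1' hfm)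
    refine cl_eq_one.1 (Nat.eq_one_iff_not_exists_prime_dvd.2 fun c hc hct => ?_)
    exact Nat.Prime.not_coprime_iff_dvd.2
      ⟨c, hc, hct, ((pure _ hS').resolve_left hnc) c hc (hct.trans hd2')⟩ htm
  have hcoP : ∀ n : ℕ, n.Coprime (cl y) → ¬ p ∣ n := fun n hn h =>
    Nat.Prime.not_coprime_iff_dvd.2 ⟨p, hp.out, h, hpm⟩ hn
  -- a `p`-singular class size is prime to `p` or a power of `p`
  have dich : ∀ g : G, Sing p g → ¬ p ∣ cl g ∨ ∃ k, cl g = p ^ k := by
    intro g hg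
    rcases pure g hg with h | h
    · exact Or.inl (hcoP _ h)
    · exact Or.inr ⟨_, Nat.eq_prime_pow_of_unique_prime_dvd (cl_pos g).ne'
        fun {d} hd hdg => hmp d hd (h d hd hdg)⟩
  have hcopP : ∀ n k : ℕ, ¬ p ∣ n → n.Coprime (p ^ k) := fun n k h =>
    ((hp.out.coprime_iff_not_dvd.2 h).pow_left k).symm
  have hpv : ¬ p ∣ cl v := hcoP _ hvm
  obtain ⟨kf, hkf⟩ : ∃ k, cl f = p ^ k := ⟨_, Nat.eq_prime_pow_of_unique_prime_dvd
    (cl_pos f).ne' fun {d} hd hdf => hmp d hd (hdf.trans hfm)⟩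
  -- every `p`-element commutes with `v`
  have hall : ∀ (h : G) (b : ℕ), orderOf h = p ^ b → h ∈ cent v := by
    intro h b hh
    rcases eq_or_ne h 1 with h1 | h1
    · rw [h1]; exact one_mem _
    rcases dich h (sing_of_pPow hh h1) with hph | ⟨k, hk⟩
    · obtain ⟨c, hc⟩ := exists_conj_mem (H := cent h) hp.out hf hph
      set f' := c⁻¹ * f * c with hf'
      have hclf : cl f' = p ^ kf := by rw [hf', cl_conj', hkf]
      have hco : (cl h).Coprime (cl f') := by rw [hclf]; exact hcopP _ _ hph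
      obtain ⟨hdvd, hge1, hge2⟩ := cl_mul hco
      have hne : h * f' ≠ 1 := fun e => by
        rw [e, cl_eq_one.2 (one_mem (center G))] at hge1
        have := one_lt_cl hZ hh h1
        omega
      have hord : ∃ j, orderOf (h * f') = p ^ j := by
        obtain ⟨j, -, hj⟩ := (Nat.dvd_prime_pow hp.out).1
          (((show Commute h f' from mem_cent.1 hc).orderOf_mul_dvd_lcm).trans
            (show Nat.lcm (orderOf h) (orderOf f') ∣ p ^ (b + bf) from Nat.lcm_dvd
              (hh ▸ pow_dvd_pow p (Nat.le_add_right b bf))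
              (by rw [hf', orderOf_conj', hf]; exact pow_dvd_pow p (Nat.le_add_left bf b))))
        exact ⟨j, hj⟩
      obtain ⟨j, hj⟩ := hord
      rcases dich (h * f') (sing_of_pPow hj hne) with h2 | ⟨i, hi⟩
      · -- then `f'` would be central
        exfalso
        have hd : cl (h * f') ∣ cl h := by
          refine Nat.Coprime.dvd_of_dvd_mul_right ?_ hdvd
          rw [hclf]
          exact hcopP _ _ h2
        have he : cl (f' * h) = cl h := by
          rw [← (show h * f' = f' * h from mem_cent.1 hc)]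
          exact le_antisymm (Nat.le_of_dvd (cl_pos h) hd) hge1
        obtain ⟨L, -, hL1, hL2, -, hL4⟩ := exists_stab hco.symm he
        have hz : f' ∈ center G := by
          refine mem_center_of_stab ?_ hL2 hL4
          rw [hf', orderOf_conj', hf]
          exact (hcopP _ bf hph).symm.coprime_dvd_right hL1
        have h3 := cl_eq_one.2 hz
        rw [hclf, ← hkf] at h3
        omega
      · have he : cl (h * f') = cl f' := by
          refine le_antisymm (Nat.le_of_dvd (cl_pos f') ?_) hge2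
          refine Nat.Coprime.dvd_of_dvd_mul_left ?_ hdvd
          rw [hi]
          exact (hcopP _ i hph).symm
        obtain ⟨L, hLn, hL1, hL2, -, -⟩ := exists_stab hco he
        haveI := hLn
        -- the normal closure of `h` is a `p`-group
        set K := zpowers h ⊔ L with hK
        have hKp : IsPGroup p K := by
          obtain ⟨i, -, hi⟩ := (Nat.dvd_prime_pow hp.out).1 (hclf ▸ hL1)
          exact IsPGroup.to_sup_of_normal_right
            (IsPGroup.of_card (n := b) (by rw [Nat.card_zpowers, hh]))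
            (IsPGroup.of_card (n := i) hi)
        haveI hKn : K.Normal := by
          refine ⟨fun z hz g => ?_⟩
          have h4 : K ≤ K.comap (MulAut.conj g).toMonoidHom := by
            refine sup_le (zpowers_le.2 ?_) fun l hl => ?_
            · have h5 : h * (h⁻¹ * (g * h * g⁻¹)) ∈ K :=
                mul_mem (mem_sup_left (mem_zpowers h)) (mem_sup_right (hL2 g))
              rw [mul_inv_cancel_left] at h5
              simpa [Subgroup.mem_comap, MulAut.conj_apply] using h5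
            · simpa [Subgroup.mem_comap, MulAut.conj_apply] using
                (mem_sup_right (hLn.conj_mem l hl g) : g * l * g⁻¹ ∈ K)
          simpa [Subgroup.mem_comap, MulAut.conj_apply] using h4 hz
        obtain ⟨n, hn⟩ := IsPGroup.iff_card.1 hKp
        have h6 : (cent v).relIndex K = 1 := Nat.eq_one_of_dvd_coprimes (hcopP _ n hpv)
          (Cfsg.Agent.PrimeParts.relIndex_dvd_index_of_normal' (cent v) K)
          (hn ▸ index_dvd_card ((cent v).subgroupOf K))
        exact relIndex_eq_one.1 h6 (mem_sup_left (mem_zpowers h))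
    · obtain ⟨c, hc⟩ := exists_conj_mem (H := cent v) hp.out hh hpv
      have hco : (cent v).index.Coprime (cent (c⁻¹ * h * c)).index := by
        show (cl v).Coprime (cl (c⁻¹ * h * c))
        rw [cl_conj', hk]
        exact hcopP _ _ hpv
      obtain ⟨a, ha, b', hb', he⟩ := exists_mul_of_coprime hco c
      have e1 : h = a * (c⁻¹ * h * c) * a⁻¹ := by
        calc h = c * (c⁻¹ * h * c) * c⁻¹ := by group
          _ = a * (b' * (c⁻¹ * h * c)) * b'⁻¹ * a⁻¹ := by rw [he]; group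
          _ = a * (c⁻¹ * h * c) * a⁻¹ := by
            rw [← (show c⁻¹ * h * c * b' = b' * (c⁻¹ * h * c) from mem_cent.1 hb')]
            group
      rw [e1]
      exact mul_mem (mul_mem ha hc) (inv_mem ha)
  obtain ⟨P⟩ := (inferInstance : Nonempty (Sylow p G))
  have hPord : ∀ h ∈ (P : Subgroup G), ∃ b, orderOf h = p ^ b := fun h hh => by
    obtain ⟨b, hb⟩ := IsPGroup.iff_orderOf.1 P.2 ⟨h, hh⟩
    exact ⟨b, by rw [← hb, orderOf_mk]⟩
  have hPv : (P : Subgroup G) ≤ cent v := fun h hh => by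
    obtain ⟨b, hb⟩ := hPord h hh
    exact hall h b hb
  -- `cent v` is `P` times central elements
  set M := (P : Subgroup G) ⊔ center G with hM
  have hMle : M ≤ cent v := sup_le hPv (center_le_cent v)
  have hMeq : cent v ≤ M := by
    rw [← relIndex_eq_one, Nat.eq_one_iff_not_exists_prime_dvd]
    intro r hr hrd
    rcases eq_or_ne r p with hrp | hrp
    · subst hrp
      exact P.not_dvd_index ((hrd.trans (Dvd.intro _ (relIndex_mul_index hMle))).trans
        (index_dvd_of_le le_sup_left))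
    haveI : Fact r.Prime := ⟨hr⟩
    obtain ⟨R⟩ := (inferInstance : Nonempty (Sylow r (cent v)))
    refine R.not_dvd_index (hrd.trans ?_)
    rw [relIndex]
    refine index_dvd_of_le fun t ht => ?_
    obtain ⟨k, hk⟩ := IsPGroup.iff_orderOf.1 R.2 ⟨t, ht⟩
    rw [orderOf_mk, ← Subgroup.orderOf_coe] at hk
    obtain ⟨hS, hd1, hd2⟩ := hcomm v r bv t (sing_of_pPow hv hv1) hv.dvd t.2 hr hrp ⟨k, hk⟩
    exact mem_subgroupOf.2 (mem_sup_right (E.mem_center_of_coprime hr hk
      (fun h => hrp (hmp r hr h)) ((hmv _ hS hd1).coprime_dvd_left hd2)))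
  have hPn : ∀ (h : G) (b : ℕ), orderOf h = p ^ b → h ∈ (P : Subgroup G) := by
    intro h b hh
    have hN : h ∈ normalizer ((P : Subgroup G) : Set G) := (sup_le le_normalizer
      ((center_le_centralizer _).trans (centralizer_le_normalizer _))) (hMeq (hall h b hh))
    have hQ : IsPGroup p (zpowers h) := IsPGroup.of_card (n := b) (by rw [Nat.card_zpowers, hh])
    have := hQ.inf_normalizer_sylow P
    exact (this.le ⟨mem_zpowers h, hN⟩).2
  haveI hPnormal : (P : Subgroup G).Normal := ⟨fun h hh g => by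
    obtain ⟨b, hb⟩ := hPord h hh
    exact hPn _ b (by rw [show g * h * g⁻¹ = g⁻¹⁻¹ * h * g⁻¹ by group, orderOf_conj', hb])⟩
  obtain ⟨nP, hnP⟩ := IsPGroup.iff_card.1 P.2
  -- elements of `P` with class size prime to `p` are central in `P`
  have hA : ∀ h : G, ¬ p ∣ cl h → (P : Subgroup G) ≤ cent h := fun h hh =>
    relIndex_eq_one.1 (Nat.eq_one_of_dvd_coprimes (hcopP _ nP hh)
      (Cfsg.Agent.PrimeParts.relIndex_dvd_index_of_normal' (cent h) (P : Subgroup G))
      (hnP ▸ index_dvd_card ((cent h).subgroupOf (P : Subgroup G))))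
  obtain ⟨c, hc, hcv⟩ := Nat.exists_prime_and_dvd hv2.ne'
  have hcp : c ≠ p := fun e => hpv (e ▸ hcv)
  haveI : Fact c.Prime := ⟨hc⟩
  obtain ⟨R⟩ := (inferInstance : Nonempty (Sylow c G))
  -- an element of `P` with `p`-power class size has a `P`-conjugate centralised by `R`
  have hconj : ∀ h ∈ (P : Subgroup G), ∀ k, cl h = p ^ k →
      ∃ n ∈ (P : Subgroup G), n⁻¹ * h * n ∈ centralizer ((R : Subgroup G) : Set G) := by
    intro h hh k hk
    have hch : ¬ c ∣ cl h := by
      rw [hk]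
      exact fun e => hcp ((Nat.prime_dvd_prime_iff_eq hc hp.out).1 (hc.dvd_of_dvd_pow e))
    obtain ⟨Q, hQ⟩ := Transfer.exists_sylow_le_centralizer (p := c) h hch
    obtain ⟨g, hg⟩ := MulAction.exists_smul_eq G R Q
    have hco : (P : Subgroup G).index.Coprime (cent h).index := by
      show _root_.Nat.Coprime _ (cl h)
      rw [hk]
      exact hcopP _ _ P.not_dvd_index
    obtain ⟨a, ha, b, hb, he⟩ := exists_mul_of_coprime hco.symm g
    -- `g = a * b` with `a ∈ cent h`, `b ∈ P`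
    refine ⟨b, hb, mem_centralizer_iff.2 fun z hz => ?_⟩
    have h1 : g * z * g⁻¹ ∈ cent h := by
      refine hQ ?_
      rw [← hg, Sylow.coe_subgroup_smul]
      exact ⟨z, hz, rfl⟩
    have h2 : h * (g * z * g⁻¹) = g * z * g⁻¹ * h := mem_cent.1 h1
    have h3 : h * a = a * h := mem_cent.1 ha
    have h3' : a⁻¹ * h * a = h := by rw [mul_assoc, h3, inv_mul_cancel_left]
    calc z * (b⁻¹ * h * b) = z * (b⁻¹ * (a⁻¹ * h * a) * b) * 1 := by
          rw [h3']; group
      _ = g⁻¹ * (g * z * g⁻¹ * h) * g := by rw [he]; group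
      _ = g⁻¹ * (h * (g * z * g⁻¹)) * g := by rw [h2]
      _ = b⁻¹ * (a⁻¹ * h * a) * b * z := by rw [he]; group
      _ = b⁻¹ * h * b * z := by rw [h3']
  -- hence `P` is `C` times its centre
  set C := (centralizer ((R : Subgroup G) : Set G)).subgroupOf (P : Subgroup G) with hC
  have hCA : C ⊔ center (P : Subgroup G) = ⊤ := by
    refine Cfsg.Agent.ClassSize.OneSize.eq_top_of_forall_conj fun h => ?_
    obtain ⟨b, hb⟩ := hPord h h.2
    by_cases h1 : (h : G) = 1
    · exact ⟨1, by simp [Subtype.ext (a1 := h) (a2 := 1) h1]⟩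
    rcases dich (h : G) (sing_of_pPow hb h1) with h2 | ⟨k, hk⟩
    · refine ⟨1, mem_sup_right ?_⟩
      rw [inv_one, one_mul, mul_one, Subgroup.mem_center_iff]
      exact fun z => Subtype.ext (mem_cent.1 (hA (h : G) h2 z.2)).symm
    · obtain ⟨n, hn, hn'⟩ := hconj h h.2 k hk
      exact ⟨⟨n, hn⟩, mem_sup_left hn'⟩
  obtain ⟨j, hj⟩ : ∃ j, orderOf v = p ^ j := ⟨bv, hv⟩
  have hvP : v ∈ (P : Subgroup G) := hPn v j hj
  have hfP : f ∈ (P : Subgroup G) := hPn f bf hf
  obtain ⟨n, hn, hf0⟩ := hconj f hfP kf hkf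
  set f₀ := n⁻¹ * f * n with hf₀
  have hf₀P : f₀ ∈ (P : Subgroup G) := mul_mem (mul_mem (inv_mem hn) hfP) hn
  have hf₀cl : cl f₀ = p ^ kf := by rw [hf₀, cl_conj', hkf]
  have hpf : p ∣ cl f₀ := by
    rw [hf₀cl]
    refine dvd_pow_self p fun e => ?_
    rw [hkf, e, pow_zero] at hf2
    exact lt_irrefl 1 hf2
  -- `f₀ * v` cannot be central in `P`
  have hnot : ¬ ∀ z ∈ (P : Subgroup G), Commute z (f₀ * v) := fun h => by
    have h1 : (P : Subgroup G) ≤ cent f₀ := fun z hz => by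
      have h2 : Commute z v := (show Commute v z from mem_cent.1 (hPv hz)).symm
      have h3 := (h z hz).mul_right h2.inv_right
      rw [mul_inv_cancel_right] at h3
      exact mem_cent.2 h3.symm.eq
    exact P.not_dvd_index (hpf.trans (index_dvd_of_le h1))
  have hfv : f₀ * v ∈ (P : Subgroup G) := mul_mem hf₀P hvP
  have hfv1 : f₀ * v ≠ 1 := fun e => hnot fun z _ => by rw [e]; exact Commute.one_right z
  obtain ⟨jf, hjf⟩ := hPord _ hfv
  rcases dich (f₀ * v) (sing_of_pPow hjf hfv1) with h2 | ⟨k, hk⟩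
  · exact hnot fun z hz => (mem_cent.1 (hA _ h2 hz)).symm
  obtain ⟨n', hn', hfvR⟩ := hconj _ hfv k hk
  obtain ⟨c₀, hc₀, z₀, hz₀, he⟩ := Subgroup.mem_sup_of_normal_right.1
    (hCA.symm ▸ mem_top (⟨n', hn'⟩ : (P : Subgroup G)))
  have hn'' : n' = (c₀ : G) * (z₀ : G) := (congrArg Subtype.val he).symm
  have hzc : ∀ w ∈ (P : Subgroup G), (z₀ : G) * w = w * z₀ := fun w hw =>
    (congrArg Subtype.val (Subgroup.mem_center_iff.1 hz₀ ⟨w, hw⟩)).symm
  have hc₀R : (c₀ : G) ∈ centralizer ((R : Subgroup G) : Set G) := hc₀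
  have e1 : n'⁻¹ * (f₀ * v) * n' = (c₀ : G)⁻¹ * f₀ * c₀ * v := by
    rw [hn'']
    have h1 : (z₀ : G) * ((c₀ : G)⁻¹ * (f₀ * v) * c₀) = (c₀ : G)⁻¹ * (f₀ * v) * c₀ * z₀ :=
      hzc _ (mul_mem (mul_mem (inv_mem c₀.2) hfv) c₀.2)
    have h2 : (c₀ : G) * v = v * c₀ := (mem_cent.1 (hPv c₀.2)).symm
    calc ((c₀ : G) * z₀)⁻¹ * (f₀ * v) * ((c₀ : G) * z₀)
        = (z₀ : G)⁻¹ * ((c₀ : G)⁻¹ * (f₀ * v) * c₀ * z₀) := by group
      _ = (c₀ : G)⁻¹ * (f₀ * v) * c₀ := by rw [← h1, inv_mul_cancel_left]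
      _ = (c₀ : G)⁻¹ * f₀ * ((c₀ : G) * v) := by rw [h2]; group
      _ = (c₀ : G)⁻¹ * f₀ * c₀ * v := by group
  rw [e1] at hfvR
  have hvR : v ∈ centralizer ((R : Subgroup G) : Set G) := by
    have h1 : (c₀ : G)⁻¹ * f₀ * c₀ ∈ centralizer ((R : Subgroup G) : Set G) :=
      mul_mem (mul_mem (inv_mem hc₀R) hf0) hc₀R
    have h2 := mul_mem (inv_mem h1) hfvR
    rwa [inv_mul_cancel_left] at h2
  exact R.not_dvd_index (hcv.trans (index_dvd_of_le fun z hz =>
    mem_cent.2 (mem_centralizer_iff.1 hvR z hz).symm))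

/-- The graph of `p`-singular class sizes. -/
theorem sing_path (hZ : ¬ p ∣ Nat.card (center G)) {r s : ℕ} (hr : Vert (G := G) (Sing p) r)
    (hs : Vert (G := G) (Sing p) s) (hrs : r ≠ s) : Path (G := G) (Sing p) r s := by
  haveI := Fintype.ofFinite G
  classical
  obtain ⟨y, hy, hmax⟩ := (Finset.univ.filter fun g : G => Sing p g).exists_max_image cl
    ⟨hr.2.choose, Finset.mem_filter.2 ⟨Finset.mem_univ _, hr.2.choose_spec.1⟩⟩
  have E := sing_setup hZ (Finset.mem_filter.1 hy).2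
    fun g hg => hmax g (Finset.mem_filter.2 ⟨Finset.mem_univ _, hg⟩)
  exact E.path (fun x q hx _ _ hxy _ hxo => sing_bridge hZ E hx hxy hxo) hr hs hrs

/-- The graph of all class sizes, when connected. -/
theorem all_path (hconn : ∀ T : Set ℕ, (∃ p ∈ T, Vert (G := G) (fun _ => True) p) →
      (∃ q ∉ T, Vert (G := G) (fun _ => True) q) →
      ∃ p q, p.Prime ∧ q.Prime ∧ p ∈ T ∧ q ∉ T ∧ Edge (G := G) (fun _ => True) p q)
    {r s : ℕ} (hr : Vert (G := G) (fun _ => True) r) (hs : Vert (G := G) (fun _ => True) s)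
    (hrs : r ≠ s) : Path (G := G) (fun _ => True) r s := by
  obtain ⟨y, hy⟩ := Finite.exists_max (cl (G := G))
  have E : Setup (G := G) (fun _ => True) y :=
    ⟨trivial, fun g _ => hy g, fun _ _ _ _ _ _ => Or.inl trivial, fun _ _ _ _ _ _ => trivial,
      fun _ _ _ _ _ => trivial⟩
  refine E.path (fun x q _ hq hqx hxy _ _ => ?_) hr hs hrs
  have hy1 : cl y ≠ 1 := by
    intro e
    have h1 := Nat.le_of_dvd (cl_pos x) hqx
    have := hy x
    have := hq.two_le
    omega
  obtain ⟨d, hd, hdy⟩ := Nat.exists_prime_and_dvd hy1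
  obtain ⟨a, b, ha, hb, haT, hbT, g, -, hg⟩ := hconn {n | n ∣ cl y}
    ⟨d, hdy, hd, y, trivial, hdy⟩
    ⟨q, fun h => Nat.Prime.not_coprime_iff_dvd.2 ⟨q, hq, hqx, h⟩ hxy, hq, x, trivial, hqx⟩
  exact ⟨g, b, a, trivial, hb, ha, (dvd_mul_left b a).trans hg, (dvd_mul_right a b).trans hg,
    hbT, haT⟩

end Cfsg.Agent.ClassSize.Diameter
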