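import Cfsg.Agent.Lib.ClassSize.TwoSteps.Tools
import Cfsg.Agent.Lib.ClassSize.OneSize

/-!
# Groups with disconnected class size graph

No class size has a prime divisor in `S` and one outside `S`, and the largest size `m` is an
`S`-number. Then there are only three class sizes `1`, `n`, `m`.

If `|K_w|` is an `S'`-number then `K_w K_x` is one class, so `w⁻¹wᵍ` lies in a normal `S`-group
centralised by `w`. Hence `C(w)` has central `S'`-part and normal Sylow subgroups, these are normal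
in `G`, and `C(w) = C₀` does not depend on `w`; finally `C₀` is abelian.
-/

namespace Cfsg.Agent.ClassSize.Disconnected

open Subgroup Cfsg.Agent.ClassSize.CoprimeTop Cfsg.Agent.ClassSize.TwoSteps

variable {G : Type*} [Group G]

/-- The hypothesis, with the largest size an `S`-number. -/
structure Disc (G : Type*) [Group G] (S : Set ℕ) (m : ℕ) (x : G) : Prop where
  pure : ∀ g : G, ∀ p q : ℕ, p.Prime → q.Prime → p ∣ cl g → q ∣ cl g → p ∈ S → q ∈ S
  le_m : ∀ g : G, cl g ≤ m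
  hx : cl x = m
  hm : ∃ p ∈ S, p.Prime ∧ p ∣ m
  hS' : ∃ q ∉ S, q.Prime ∧ ∃ g : G, q ∣ cl g

/-- The class size of `g` has a prime divisor outside `S`. -/
def IsT (S : Set ℕ) (g : G) : Prop := ∃ q ∉ S, q.Prime ∧ q ∣ cl g

variable [Finite G] {S : Set ℕ} {m : ℕ} {x : G}

theorem IsT.notMem_center {g : G} (h : IsT S g) : g ∉ center G := fun hZ => by
  obtain ⟨q, -, hq, hqg⟩ := h
  rw [cl_eq_one.2 hZ] at hqg
  exact hq.not_dvd_one hqg

theorem Disc.notMem (D : Disc G S m x) {g : G} (h : IsT S g) {p : ℕ} (hp : p.Prime)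
    (hpg : p ∣ cl g) : p ∉ S := fun hpS => by
  obtain ⟨q, hqS, hq, hqg⟩ := h
  exact hqS (D.pure g p q hp hq hpg hqg hpS)

omit [Finite G] in
theorem mem_of_not_isT {g : G} (h : ¬ IsT S g) {p : ℕ} (hp : p.Prime) (hpg : p ∣ cl g) : p ∈ S :=
  by_contra fun hpS => h ⟨p, hpS, hp, hpg⟩

theorem Disc.isT_of_dvd (D : Disc G S m x) {g w : G} (hd : cl g ∣ cl w) (hw : IsT S w)
    (hg : g ∉ center G) : IsT S g := by
  obtain ⟨p, hp, hpg⟩ := Nat.exists_prime_and_dvd (show cl g ≠ 1 from fun e => hg (cl_eq_one.1 e))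
  exact ⟨p, D.notMem hw hp (hpg.trans hd), hp, hpg⟩

theorem Disc.coprime_of (D : Disc G S m x) {g w : G} (hg : ¬ IsT S g) (hw : IsT S w) :
    (cl g).Coprime (cl w) :=
  Nat.coprime_of_dvd fun _ hp h1 h2 => D.notMem hw hp h2 (mem_of_not_isT hg hp h1)

theorem Disc.not_isT_x (D : Disc G S m x) : ¬ IsT S x := fun ⟨q, hqS, hq, hqx⟩ => by
  obtain ⟨p, hpS, hp, hpm⟩ := D.hm
  exact hqS (D.pure x p q hp hq (D.hx ▸ hpm) hqx hpS)

theorem Disc.exists_L (D : Disc G S m x) {w : G} (hw : IsT S w) :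
    ∃ L : Subgroup G, L.Normal ∧ Nat.card L ∣ m ∧ (∀ g : G, w⁻¹ * (g * w * g⁻¹) ∈ L) ∧
      L ≤ cent w := by
  have hco : (cl w).Coprime (cl x) := (D.coprime_of D.not_isT_x hw).symm
  obtain ⟨L, h1, h2, h3, -, h5⟩ := exists_stab hco
    (le_antisymm ((D.le_m _).trans_eq D.hx.symm) (cl_mul hco).2.2)
  exact ⟨L, h1, h2.trans (dvd_of_eq D.hx), h3, h5⟩

theorem Disc.conj_mem_cent (D : Disc G S m x) {w : G} (hw : IsT S w) (g : G) :
    g * w * g⁻¹ ∈ cent w := by
  obtain ⟨L, -, -, h3, h5⟩ := D.exists_L hw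
  rw [← mul_inv_cancel_left w (g * w * g⁻¹)]
  exact mul_mem (self_mem_cent w) (h5 (h3 g))

theorem Disc.prime_mem (D : Disc G S m x) {w : G} (hw : IsT S w) {q : ℕ} (hq : q.Prime)
    (hwq : IsPEl q w) : q ∈ S := by
  by_contra hqS
  obtain ⟨L, -, h2, h3, h5⟩ := D.exists_L hw
  obtain ⟨k, hk⟩ := hwq.orderOf_dvd
  have hqm : ¬ q ∣ m := fun h => hqS (mem_of_not_isT D.not_isT_x hq (D.hx ▸ h))
  exact hw.notMem_center (mem_center_of_stab
    ((((hq.coprime_iff_not_dvd).2 hqm).pow_left k).coprime_dvd_left hk |>.coprime_dvd_right h2)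
    h3 h5)

theorem Disc.mem_center_of_mem_cent (D : Disc G S m x) {w v : G} (hw : IsT S w) {q r : ℕ}
    (hq : q.Prime) (hwq : IsPEl q w) (hr : r.Prime) (hrS : r ∉ S) (hv : IsPEl r v)
    (hvw : v ∈ cent w) : v ∈ center G := by
  by_contra hvZ
  have hne : r ≠ q := fun e => hrS (e ▸ D.prime_mem hw hq hwq)
  have h1 : cent (v * w) = cent v ⊓ cent w :=
    cent_mul_coprime (mem_cent.1 hvw).symm (hv.coprime hr hq hne hwq)
  obtain ⟨p, hp, hpv⟩ := Nat.exists_prime_and_dvd (show cl v ≠ 1 from fun e => hvZ (cl_eq_one.1 e))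
  have hpS : p ∈ S := mem_of_not_isT (fun h => hrS (D.prime_mem h hr hv)) hp hpv
  obtain ⟨t, htS, ht, htw⟩ := hw
  exact htS (D.pure (v * w) p t hp ht (hpv.trans (cl_dvd (h1 ▸ inf_le_left)))
    (htw.trans (cl_dvd (h1 ▸ inf_le_right))) hpS)

theorem Disc.cl_eq (D : Disc G S m x) {u u' w w' : G} {q q' : ℕ} (hq : q.Prime) (hq' : q'.Prime)
    (hwq : IsPEl q w) (hw : IsT S w) (hwq' : IsPEl q' w') (hw' : IsT S w') (hu : IsT S u)
    (hu' : IsT S u') (huw : cent u ≤ cent w) (huw' : cent u' ≤ cent w') : cl u = cl u' := by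
  refine Nat.eq_of_factorization_eq (cl_pos u).ne' (cl_pos u').ne' fun r => ?_
  by_cases hr : r.Prime
  swap
  · rw [Nat.factorization_eq_zero_of_not_prime _ hr, Nat.factorization_eq_zero_of_not_prime _ hr]
  by_cases hrS : r ∈ S
  · rw [Nat.factorization_eq_zero_of_not_dvd fun h => D.notMem hu hr h hrS,
      Nat.factorization_eq_zero_of_not_dvd fun h => D.notMem hu' hr h hrS]
  have := Fact.mk hr
  have key : ∀ {u w : G} {q : ℕ}, q.Prime → IsPEl q w → IsT S w → cent u ≤ cent w →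
      pp r (cent u) = pp r (center G) := by
    intro u w q hq hwq hw hle
    refine le_antisymm ?_ (pp_mono (center_le_cent u))
    obtain ⟨W, hW, hWr, hWc⟩ := exists_pp_subgroup r (cent u)
    exact hWc ▸ card_le_pp
      (fun v hv => D.mem_center_of_mem_cent hw hq hwq hr hrS (isPEl_of_mem hWr hv) (hle (hW hv))) hWr
  have h1 := pp_mul_cl (p := r) u
  rw [← pp_mul_cl (p := r) u', key hq hwq hw huw, key hq' hwq' hw' huw'] at h1
  exact Nat.pow_right_injective hr.two_le (Nat.eq_of_mul_eq_mul_left (pow_pos hr.pos _) h1)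

theorem Disc.cent_le_cent (D : Disc G S m x) {w g : G} (hw : IsT S w) {q₀ q : ℕ} (hq₀ : q₀.Prime)
    (hwq : IsPEl q₀ w) (hq : q.Prime) (hne : q ≠ q₀) (hg : IsPEl q g) (hgw : g ∈ cent w) :
    cent w ≤ cent g := by
  by_cases hgZ : g ∈ center G
  · intro v _
    exact mem_cent.2 (mem_center_iff.1 hgZ v).symm
  have h1 : cent (g * w) = cent g ⊓ cent w :=
    cent_mul_coprime (mem_cent.1 hgw).symm (hg.coprime hq hq₀ hne hwq)
  have hle : cent (g * w) ≤ cent w := h1 ▸ inf_le_right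
  obtain ⟨t, htS, ht, htw⟩ := hw
  have hgwT : IsT S (g * w) := ⟨t, htS, ht, htw.trans (cl_dvd hle)⟩
  have h2 := eq_of_le_of_cl hle
    (D.cl_eq hq₀ hq₀ hwq ⟨t, htS, ht, htw⟩ hwq ⟨t, htS, ht, htw⟩ hgwT ⟨t, htS, ht, htw⟩ hle le_rfl).le
  rw [h1, inf_eq_right] at h2
  exact h2

theorem Disc.exists_sylow_cent (D : Disc G S m x) {w : G} (hw : IsT S w) {q₀ q : ℕ}
    (hq₀ : q₀.Prime) (hwq : IsPEl q₀ w) [hq : Fact q.Prime] (hqS : q ∈ S) :
    ∃ P : Sylow q G, (P : Subgroup G) ≤ cent w ∧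
      ∀ g ∈ cent w, IsPEl q g → g ∈ (P : Subgroup G) := by
  obtain ⟨W⟩ := (inferInstance : Nonempty (Sylow q (cent w)))
  have hn : (W : Subgroup (cent w)).Normal := by
    rw [← normalizer_eq_top_iff]
    refine Components.eq_top_of_forall_sylow fun p hp _ => ?_
    by_cases hpq : p = q
    · subst hpq
      exact ⟨W, le_normalizer⟩
    obtain ⟨P⟩ := (inferInstance : Nonempty (Sylow p (cent w)))
    refine ⟨P, fun y hy => centralizer_le_normalizer _ (mem_centralizer_iff.2 fun b hb => ?_)⟩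
    have hyp : IsPEl p (y : G) := (isPEl_of_mem P.isPGroup' hy).imp fun k hk => congrArg Subtype.val hk
    have hbq : IsPEl q (b : G) := (isPEl_of_mem W.isPGroup' hb).imp fun k hk => congrArg Subtype.val hk
    refine Subtype.ext ?_
    show (b : G) * y = y * b
    by_cases hq' : q = q₀
    · exact (mem_cent.1 (D.cent_le_cent hw hq₀ hwq hp (hq' ▸ hpq) hyp y.2 b.2)).symm
    · exact mem_cent.1 (D.cent_le_cent hw hq₀ hwq hq.out hq' hbq b.2 y.2)
  have hc : Nat.card ((W : Subgroup (cent w)).map (cent w).subtype) =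
      q ^ (Nat.card G).factorization q := by
    have h := factorization_index (p := q) (cent w)
    rw [show (cent w).index = cl w from rfl,
      Nat.factorization_eq_zero_of_not_dvd fun h => D.notMem hw hq.out h hqS, add_zero] at h
    rw [card_map_of_injective (cent w).subtype_injective, W.card_eq_multiplicity, h]
  refine ⟨Sylow.ofCard _ hc, map_subtype_le _, fun g hg hgq => ⟨⟨g, hg⟩, ?_, rfl⟩⟩
  refine mem_of_normal (p := q) (C := (W : Subgroup (cent w))) (H := ⊤) le_top ?_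
    (hgq.imp fun _ h => Subtype.ext h) (mem_top _)
  rw [pp, card_top, ← W.card_eq_multiplicity]
  exact card_le_pp le_rfl W.isPGroup'

theorem Disc.exists_w (D : Disc G S m x) : ∃ q : ℕ, q.Prime ∧ ∃ w : G, IsPEl q w ∧ IsT S w := by
  obtain ⟨t, htS, ht, g, htg⟩ := D.hS'
  have hgT : IsT S g := ⟨t, htS, ht, htg⟩
  by_contra h
  push Not at h
  refine hgT.notMem_center (mem_of_forall_primary fun q hq y hy hyq => ?_)
  by_contra hyZ
  exact h q hq y hyq (D.isT_of_dvd (cl_dvd (cent_le_of_mem_zpowers hy)) hgT hyZ)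

omit [Finite G] in
theorem isPEl_conj {g : G} {r : ℕ} (hg : IsPEl r g) (h : G) : IsPEl r (h * g * h⁻¹) :=
  hg.imp fun k hk => by rw [conj_pow, hk, mul_one, mul_inv_cancel]

theorem Disc.sylow_eq (D : Disc G S m x) {q : ℕ} [hq : Fact q.Prime] (hqS : q ∈ S)
    (P P' : Sylow q G) : P = P' := by
  suffices h : ∃ P : Sylow q G, ∀ g ∈ (P : Subgroup G), ∀ Q : Sylow q G, g ∈ (Q : Subgroup G) by
    obtain ⟨P₀, h⟩ := h
    have : ∀ Q : Sylow q G, Q = P₀ := fun Q => Sylow.ext (eq_of_le_of_card_ge (fun g hg => h g hg Q)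
      (le_of_eq (by rw [sylow_card, sylow_card]))).symm
    rw [this P, this P']
  obtain ⟨q₀, hq₀, w₀, hw₀q, hw₀⟩ := D.exists_w
  obtain ⟨P₀, hP₀, hP₀mem⟩ := D.exists_sylow_cent hw₀ hq₀ hw₀q hqS
  refine ⟨P₀, fun g hg Q => ?_⟩
  have hgq := isPEl_of_mem P₀.isPGroup' hg
  obtain ⟨P₁, hP₁⟩ : ∃ P₁ : Sylow q G, ∀ h : G, h * g * h⁻¹ ∈ (P₁ : Subgroup G) := by
    by_cases hgT : IsT S g
    · obtain ⟨P₁, -, h1⟩ := D.exists_sylow_cent hgT hq.out hgq hqS
      exact ⟨P₁, fun h => h1 _ (D.conj_mem_cent hgT h) (isPEl_conj hgq h)⟩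
    · refine ⟨P₀, fun h => hP₀mem _ ?_ (isPEl_conj hgq h)⟩
      obtain ⟨a, ha, b, hb, hab⟩ := exists_mul_of_coprime (D.coprime_of hgT hw₀) h⁻¹
      have hh : h = b⁻¹ * a⁻¹ := by rw [← inv_inv h, hab, mul_inv_rev]
      have e : a⁻¹ * g * a⁻¹⁻¹ = g := by
        rw [← mem_cent.1 (inv_mem ha), mul_inv_cancel_right]
      rw [show h * g * h⁻¹ = b⁻¹ * (a⁻¹ * g * a⁻¹⁻¹) * b⁻¹⁻¹ by rw [hh]; group, e]
      exact mul_mem (mul_mem (inv_mem hb) (hP₀ hg)) (inv_mem (inv_mem hb))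
  obtain ⟨h, rfl⟩ := MulAction.exists_smul_eq G P₁ Q
  rw [Sylow.coe_subgroup_smul, mem_pointwise_smul_iff_inv_smul_mem, ← map_inv, MulAut.smul_def,
    MulAut.conj_apply]
  exact hP₁ h⁻¹

theorem Disc.mem_cent_w (D : Disc G S m x) {w g : G} (hw : IsT S w) {q₀ q : ℕ} (hq₀ : q₀.Prime)
    (hwq : IsPEl q₀ w) [Fact q.Prime] (hqS : q ∈ S) (hg : IsPEl q g) : g ∈ cent w := by
  obtain ⟨P, hP, -⟩ := D.exists_sylow_cent hw hq₀ hwq hqS
  obtain ⟨Q, hQ⟩ := hg.isPGroup_zpowers.exists_le_sylow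
  exact hP (D.sylow_eq hqS Q P ▸ hQ (mem_zpowers g))

theorem Disc.cent_eq (D : Disc G S m x) {w w' : G} (hw : IsT S w) (hw' : IsT S w') {q q' : ℕ}
    (hq : q.Prime) (hwq : IsPEl q w) (hq' : q'.Prime) (hwq' : IsPEl q' w') : cent w = cent w' := by
  have key : ∀ {w w' : G} {q q' : ℕ}, IsT S w → IsT S w' → q.Prime → IsPEl q w → q'.Prime →
      IsPEl q' w' → cent w ≤ cent w' := by
    intro w w' q q' hw hw' hq hwq hq' hwq' g hg
    refine mem_of_forall_primary fun r hr y hy hyr => ?_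
    by_cases hrS : r ∈ S
    · have := Fact.mk hr
      exact D.mem_cent_w hw' hq' hwq' hrS hyr
    · exact center_le_cent w'
        (D.mem_center_of_mem_cent hw hq hwq hr hrS hyr (zpowers_le.2 hg hy))
  exact le_antisymm (key hw hw' hq hwq hq' hwq') (key hw' hw hq' hwq' hq hwq)

/-- `C(w)` is abelian. -/
theorem Disc.abelian (D : Disc G S m x) {w : G} (hw : IsT S w) {q₀ : ℕ} (hq₀ : q₀.Prime)
    (hwq : IsPEl q₀ w) : ∀ g ∈ cent w, cent w ≤ cent g := by
  classical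
  set C := cent w with hCdef
  set W := C ⊓ centralizer (C : Set G) with hWdef
  suffices hCW : C ≤ W by
    intro g hg v hv
    exact mem_cent.2 ((mem_centralizer_iff.1 (hCW hg).2 v hv).symm)
  have hwW : w ∈ W := ⟨self_mem_cent w, mem_centralizer_iff.2 fun v hv => (mem_cent.1 hv).symm⟩
  have hpartW : ∀ r : ℕ, r.Prime → ∀ y ∈ C, IsPEl r y → IsT S y → y ∈ W := fun r hr y hy hyr hyT =>
    ⟨hy, mem_centralizer_iff.2 fun v hv => by
      rw [hCdef, D.cent_eq hw hyT hq₀ hwq hr hyr] at hv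
      exact (mem_cent.1 hv).symm⟩
  have hnT : ∀ c ∈ C, c ∉ W → ¬ IsT S c := by
    intro c hc hcW hcT
    refine hcW (mem_of_forall_primary fun r hr y hy hyr => ?_)
    have hyC : y ∈ C := zpowers_le.2 hc hy
    by_cases hyZ : y ∈ center G
    · exact ⟨hyC, mem_centralizer_iff.2 fun v _ => mem_center_iff.1 hyZ v⟩
    · exact hpartW r hr y hyC hyr (D.isT_of_dvd (cl_dvd (cent_le_of_mem_zpowers hy)) hcT hyZ)
  obtain ⟨r, hrS, hr, hrw⟩ := id hw
  have := Fact.mk hr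
  obtain ⟨R⟩ := (inferInstance : Nonempty (Sylow r G))
  set K := C ⊓ centralizer ((R : Subgroup G) : Set G) with hKdef
  -- every element of `C` outside `W` has a `C`-conjugate centralised by `R`
  have hconj : ∀ c ∈ C, c ∉ W → ∃ b ∈ C, b * c * b⁻¹ ∈ K := by
    intro c hc hcW
    have hnTc := hnT c hc hcW
    have hc0 : ¬ r ∣ (cent c).index := fun h => hrS (mem_of_not_isT hnTc hr h)
    obtain ⟨R₀⟩ := (inferInstance : Nonempty (Sylow r (cent c)))
    have hR₀ : Nat.card ((R₀ : Subgroup (cent c)).map (cent c).subtype) =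
        r ^ (Nat.card G).factorization r := by
      have h := factorization_index (p := r) (cent c)
      rw [Nat.factorization_eq_zero_of_not_dvd hc0, add_zero] at h
      rw [card_map_of_injective (cent c).subtype_injective, R₀.card_eq_multiplicity, h]
    obtain ⟨h, hh⟩ := MulAction.exists_smul_eq G (Sylow.ofCard _ hR₀) R
    obtain ⟨a, ha, b, hb, hab⟩ := exists_mul_of_coprime (D.coprime_of hnTc hw) h⁻¹
    refine ⟨b⁻¹, inv_mem hb, mem_inf.2 ⟨C.mul_mem (C.mul_mem (C.inv_mem hb) hc) (C.inv_mem (C.inv_mem hb)), ?_⟩⟩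
    refine mem_centralizer_iff.2 ?_
    intro v hv
    rw [← hh, Sylow.coe_subgroup_smul] at hv
    obtain ⟨v₀, hv₀, rfl⟩ := hv
    have h1 : c * v₀ = v₀ * c := mem_cent.1 (map_subtype_le (R₀ : Subgroup (cent c)) hv₀)
    have hh' : h = b⁻¹ * a⁻¹ := by rw [← inv_inv h, hab, mul_inv_rev]
    have e : a⁻¹ * c * a⁻¹⁻¹ = c := by
      rw [← mem_cent.1 (inv_mem ha), mul_inv_cancel_right]
    show h * v₀ * h⁻¹ * (b⁻¹ * c * b⁻¹⁻¹) = b⁻¹ * c * b⁻¹⁻¹ * (h * v₀ * h⁻¹)
    rw [show b⁻¹ * c * b⁻¹⁻¹ = h * c * h⁻¹ by conv_lhs => rw [← e]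
                                              rw [hh']; group]
    calc h * v₀ * h⁻¹ * (h * c * h⁻¹) = h * (v₀ * c) * h⁻¹ := by group
      _ = h * (c * v₀) * h⁻¹ := by rw [h1]
      _ = h * c * h⁻¹ * (h * v₀ * h⁻¹) := by group
  -- so `C = W ⊔ K`
  have hsup : (W ⊔ K).subgroupOf C = ⊤ := OneSize.eq_top_of_forall_conj fun c => by
    by_cases hcW : (c : G) ∈ W
    · exact ⟨1, by simpa using mem_subgroupOf.2 (mem_sup_left hcW)⟩
    · obtain ⟨b, hb, hbc⟩ := hconj c c.2 hcW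
      exact ⟨⟨b, hb⟩⁻¹, mem_subgroupOf.2 (mem_sup_right (by simpa using hbc))⟩
  have hCN : C ≤ normalizer (K : Set G) :=
    (subgroupOf_eq_top.1 hsup).trans (sup_le (fun v hv => centralizer_le_normalizer _
      (mem_centralizer_iff.2 fun k hk => mem_centralizer_iff.1 hv.2 k hk.1)) le_normalizer)
  intro g₀ hg₀
  by_contra hg₀W
  obtain ⟨b₀, hb₀, hgK⟩ := hconj g₀ hg₀ hg₀W
  set g := b₀ * g₀ * b₀⁻¹ with hgdef
  have hgW : g ∉ W := fun h => hg₀W (by
    have h1 : b₀⁻¹ * g * b₀⁻¹⁻¹ = g := by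
      rw [mem_centralizer_iff.1 h.2 b₀⁻¹ (inv_mem hb₀), mul_inv_cancel_right]
    rw [hgdef] at h1
    have h2 : g₀ = b₀ * g₀ * b₀⁻¹ := by simpa [mul_assoc] using h1
    rw [h2]
    exact h)
  obtain ⟨b, hb, hbK⟩ := hconj (g * w) (mul_mem hgK.1 (self_mem_cent w))
    (fun h => hgW ((mul_mem_cancel_right hwW).1 h))
  have h3 : b * g * b⁻¹ ∈ K := (mem_normalizer_iff.1 (hCN hb) g).1 hgK
  have h4 : w ∈ K := by
    have e : b * w * b⁻¹ = w := by rw [← mem_cent.1 hb, mul_inv_cancel_right]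
    have h5 := mul_mem (inv_mem h3) hbK
    rwa [show (b * g * b⁻¹)⁻¹ * (b * (g * w) * b⁻¹) = b * w * b⁻¹ by group, e] at h5
  refine R.not_dvd_index (hrw.trans (index_dvd_of_le fun v hv => mem_cent.2 ?_))
  exact (mem_centralizer_iff.1 h4.2 v hv).symm

/-- There are only three class sizes. -/
theorem Disc.three (D : Disc G S m x) :
    ∃ n : ℕ, 1 < n ∧ m.Coprime n ∧ (∃ y : G, cl y = n) ∧
      ∀ g : G, cl g = 1 ∨ cl g = n ∨ cl g = m := by
  obtain ⟨q₀, hq₀, w, hwq, hw⟩ := D.exists_w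
  have hab := D.abelian hw hq₀ hwq
  have hT : ∀ g : G, IsT S g → cent g = cent w := by
    intro g hg
    obtain ⟨q, hq, y, hy, hyq, hyZ⟩ : ∃ q : ℕ, q.Prime ∧ ∃ y ∈ zpowers g, IsPEl q y ∧
        y ∉ center G := by
      by_contra h
      push Not at h
      exact hg.notMem_center (mem_of_forall_primary h)
    have hle : cent g ≤ cent w := (cent_le_of_mem_zpowers hy).trans
      (D.cent_eq (D.isT_of_dvd (cl_dvd (cent_le_of_mem_zpowers hy)) hg hyZ) hw hq hyq hq₀ hwq).le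
    exact le_antisymm hle (hab g (hle (self_mem_cent g)))
  have hnS : ∀ g : G, g ∉ center G → ¬ IsT S g → cl g * cl w = (center G).index := by
    intro g hgZ hg
    have hgC : g ∉ cent w := fun h => hg (D.isT_of_dvd (cl_dvd (hab g h)) hw hgZ)
    rw [cl, cl, ← index_inf_of_coprime (D.coprime_of hg hw)]
    congr 1
    refine le_antisymm (fun c hc => ?_) (le_inf (center_le_cent g) (center_le_cent w))
    by_contra hcZ
    have hcT : IsT S c := D.isT_of_dvd (cl_dvd (hab c hc.2)) hw hcZ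
    exact hgC (hT c hcT ▸ cent_comm.1 hc.1)
  have hco : m.Coprime (cl w) := D.hx ▸ D.coprime_of D.not_isT_x hw
  obtain ⟨p, -, hp, hpm⟩ := D.hm
  have hxZ : x ∉ center G := fun h => hp.not_dvd_one (by
    rw [← cl_eq_one.2 h, D.hx]; exact hpm)
  refine ⟨cl w, ?_, hco, ⟨w, rfl⟩, fun g => ?_⟩
  · have := cl_pos w
    have h1 : cl w ≠ 1 := fun e => hw.notMem_center (cl_eq_one.1 e)
    omega
  · by_cases hgZ : g ∈ center G
    · exact Or.inl (cl_eq_one.2 hgZ)
    by_cases hg : IsT S g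
    · exact Or.inr (Or.inl (by rw [cl, cl, hT g hg]))
    · refine Or.inr (Or.inr ?_)
      rw [← D.hx]
      exact Nat.eq_of_mul_eq_mul_right (cl_pos w) ((hnS g hgZ hg).trans (hnS x hxZ D.not_isT_x).symm)

end Cfsg.Agent.ClassSize.Disconnected
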