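import Cfsg.Agent.Lib.ClassSize.SquareFreeSupersolvable
import Cfsg.Agent.Lib.Breadth.Induction
import Cfsg.Agent.Lib.Subnormal.Nilpotent
import Cfsg.Agent.Lib.Solvable.Schmidt
import Cfsg.Agent.S0526
import Mathlib.GroupTheory.SpecificGroups.ZGroup

/-!
The structure of groups with square-free class sizes: the Fitting subgroup has class at most two,
the Fitting quotient and the derived subgroup are cyclic of square-free order.
-/

set_option autoImplicit false
set_option linter.style.haveILetI false

namespace Cfsg.Agent.ClassSize.SquareFree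

open Subgroup
open scoped commutatorElement

universe u

variable {G : Type u} [Group G] [Finite G]

theorem SF.card_commutator_dvd (h : SF G) {p : ℕ} [hp : Fact p.Prime] (hG : IsPGroup p G) :
    Nat.card ↥(commutator G) ∣ p := by
  have hle := Breadth.card_commutator_le hG 1 fun x => by
    obtain ⟨k, hk⟩ := hG.index (centralizer ({x} : Set G))
    rw [pow_one]
    exact Nat.le_of_dvd hp.out.pos (dvd_prime_of_squarefree hp.out (k := k) hk.dvd (h x))
  obtain ⟨k, hk⟩ := PGroup.card_eq_pow hG (commutator G)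
  rw [show 1 * (1 + 1) / 2 = 1 from rfl, pow_one] at hle
  rw [hk] at hle ⊢
  rcases Nat.lt_or_ge k 2 with h2 | h2
  · interval_cases k <;> simp
  · exfalso
    have := Nat.pow_le_pow_right hp.out.pos h2
    have h3 : p * 1 < p * p := Nat.mul_lt_mul_of_pos_left hp.out.one_lt hp.out.pos
    rw [sq] at this
    omega

theorem SF.commutator_le_center (h : SF G) {p : ℕ} [hp : Fact p.Prime] (hG : IsPGroup p G) :
    commutator G ≤ center G := by
  rcases (Nat.dvd_prime hp.out).1 (h.card_commutator_dvd hG) with e | e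
  · rw [card_eq_one.1 e]; exact bot_le
  · exact PGroup.le_center_of_card_eq hG _ e

/-- A nilpotent group with square-free class sizes has class at most two. -/
theorem SF.commute_commutator (h : SF G) [Group.IsNilpotent G] (a b c : G) : Commute ⁅a, b⁆ c := by
  have hn : ∀ {p : ℕ} [Fact p.Prime] (P : Sylow p G), (P : Subgroup G).Normal := fun {p} _ P =>
    P.normal_of_normalizerCondition Group.normalizerCondition_of_isNilpotent
  let e := Sylow.directProductOfNormal hn
  obtain ⟨a, rfl⟩ := e.surjective a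
  obtain ⟨b, rfl⟩ := e.surjective b
  obtain ⟨c, rfl⟩ := e.surjective c
  show Commute ⁅e.toMonoidHom a, e.toMonoidHom b⁆ (e.toMonoidHom c)
  rw [← map_commutatorElement e.toMonoidHom]
  refine Commute.map ?_ e.toMonoidHom
  refine funext fun p => funext fun P => ?_
  haveI := Fact.mk (Nat.prime_of_mem_primeFactors p.2)
  haveI := hn P
  have hm : ⁅a p P, b p P⁆ ∈ commutator (P : Subgroup G) := by
    rw [commutator_def]; exact commutator_mem_commutator trivial trivial
  exact (mem_center_iff.1 ((h.of_normal (P : Subgroup G)).commutator_le_center P.2 hm) (c p P)).symm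

theorem SF.commutator_commutator_le_center (h : SF G) [Group.IsNilpotent G] :
    commutator G ≤ center G := by
  rw [commutator_def, commutator_le]
  exact fun a _ b _ => mem_center_iff.2 fun c => (h.commute_commutator a b c).eq.symm

theorem SF.upperCentralSeries_two (h : SF G) [Group.IsNilpotent G] :
    Subgroup.upperCentralSeries G 2 = ⊤ := by
  refine eq_top_iff.2 fun x _ => ?_
  rw [Subgroup.mem_upperCentralSeries_succ_iff]
  intro y
  rw [Subgroup.upperCentralSeries_one]
  exact h.commutator_commutator_le_center (by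
    rw [commutator_def]; exact commutator_mem_commutator trivial trivial)

theorem SF.commutator_le_fitting (h : SF G) : commutator G ≤ fittingSubgroup G := by
  haveI := Cfsg.Agent.S0526.result h.isSupersolvable
  exact Components.le_fittingSubgroup inferInstance

theorem normal_of_commutator_le {H : Subgroup G} (h : commutator G ≤ H) : H.Normal := by
  refine ⟨fun x hx g => ?_⟩
  have h1 : ⁅g, x⁆ ∈ H := h (by rw [commutator_def]; exact commutator_mem_commutator trivial trivial)
  simpa [commutatorElement_def] using mul_mem h1 hx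

/-- The elements of order prime to `q` in the Fitting subgroup. -/
noncomputable def qPrimePart (q : ℕ) (G : Type u) [Group G] : Subgroup G :=
  (Cfsg.pResidual q ↥(fittingSubgroup G)).map (fittingSubgroup G).subtype

instance qPrimePart_normal (q : ℕ) : (qPrimePart q G).Normal := by
  haveI := Transfer.pResidual_characteristic (G := ↥(fittingSubgroup G)) q
  haveI := Components.fittingSubgroup_normal G
  exact ConjAct.normal_of_characteristic_of_normal

theorem mem_qPrimePart {q : ℕ} [Fact q.Prime] {x : G} :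
    x ∈ qPrimePart q G ↔ x ∈ fittingSubgroup G ∧ (orderOf x).Coprime q := by
  have hc := Solvable.hasNormalPComplement_of_isNilpotent (G := ↥(fittingSubgroup G)) q
  constructor
  · rintro ⟨y, hy, rfl⟩
    exact ⟨y.2, by rw [Subgroup.subtype_apply, orderOf_coe]; exact (Transfer.mem_pResidual_iff hc y).1 hy⟩
  · rintro ⟨hx, ho⟩
    exact ⟨⟨x, hx⟩, (Transfer.mem_pResidual_iff hc _).2 (by rwa [orderOf_mk]), rfl⟩

theorem qPrimePart_le (q : ℕ) : qPrimePart q G ≤ fittingSubgroup G := map_subtype_le _

/-- Split an element of the Fitting subgroup. -/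
theorem fitting_parts {q : ℕ} [hq : Fact q.Prime] {x : G} (hx : x ∈ fittingSubgroup G) :
    ∃ u s, x = u * s ∧ u ∈ pCore q G ∧ s ∈ qPrimePart q G ∧
      ∀ t ∈ qPrimePart q G, Commute t u := by
  obtain ⟨u, s, he, -, hu, hs⟩ := exists_parts (p := q) (⟨x, hx⟩ : fittingSubgroup G)
  obtain ⟨k, hk⟩ := hu ⟨u, mem_zpowers u⟩
  have hk' : u ^ q ^ k = 1 := congrArg Subtype.val hk
  refine ⟨u, s, congrArg Subtype.val he, ?_, mem_qPrimePart.2 ⟨s.2, by rwa [orderOf_coe]⟩, ?_⟩
  · exact Subnormal.mem_pCore_of_mem_fittingSubgroup u.2 (congrArg Subtype.val hk')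
  · intro t ht
    obtain ⟨htF, hto⟩ := mem_qPrimePart.1 ht
    exact (Subnormal.commute_of_coprime (y := (⟨t, htF⟩ : fittingSubgroup G)) hk'
      (by rwa [orderOf_mk])).map (fittingSubgroup G).subtype

/-- A `q`-element centralising the `q'`-part of `F(G)` modulo its derived subgroup lies in `F(G)`. -/
theorem SF.mem_fitting (h : SF G) {q : ℕ} [hq : Fact q.Prime] {y : G}
    (hy : IsPGroup q (zpowers y))
    (hc : ∀ v ∈ qPrimePart q G, y * v * y⁻¹ * v⁻¹ ∈ ⁅qPrimePart q G, qPrimePart q G⁆) :
    y ∈ fittingSubgroup G := by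
  set R := qPrimePart q G with hR
  set F := fittingSubgroup G with hF
  haveI := Components.fittingSubgroup_normal G
  have hRF : R ≤ F := qPrimePart_le q
  have hR' : ⁅R, R⁆ ≤ R := commutator_le_self R
  have hcen : ∀ z ∈ ⁅R, R⁆, ∀ g ∈ F, Commute z g := by
    intro z hz g hg
    have hz' : (⟨z, hRF (hR' hz)⟩ : F) ∈ center F := by
      have hm : z ∈ (commutator F).map F.subtype := by
        rw [map_subtype_commutator]
        exact commutator_mono hRF hRF hz
      obtain ⟨w, hw, rfl⟩ := hm
      exact (h.of_normal F).commutator_commutator_le_center hw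
    exact (congrArg Subtype.val (mem_center_iff.1 hz' ⟨g, hg⟩)).symm
  have hfix : ∀ z ∈ ⁅R, R⁆, y * z * y⁻¹ = z := by
    intro z hz
    have : ⁅R, R⁆ ≤ centralizer ({y} : Set G) := by
      rw [commutator_le]
      intro a ha b hb
      set c := y * a * y⁻¹ * a⁻¹ with hcd
      set d := y * b * y⁻¹ * b⁻¹ with hdd
      have hca : y * a * y⁻¹ = c * a := by rw [hcd]; group
      have hdb : y * b * y⁻¹ = d * b := by rw [hdd]; group
      have hC : ∀ g ∈ F, Commute c g := hcen c (hc a ha)
      have hD : ∀ g ∈ F, Commute d g := hcen d (hc b hb)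
      have hdF : d ∈ F := hRF (hR' (hc b hb))
      have e : y * ⁅a, b⁆ * y⁻¹ = ⁅a, b⁆ := by
        calc y * ⁅a, b⁆ * y⁻¹ = ⁅y * a * y⁻¹, y * b * y⁻¹⁆ := by
              simp only [commutatorElement_def]; group
          _ = ⁅c * a, d * b⁆ := by rw [hca, hdb]
          _ = c * (a * (d * b) * a⁻¹) * c⁻¹ * (d * b)⁻¹ := by
              simp only [commutatorElement_def]; group
          _ = a * (d * b) * a⁻¹ * (d * b)⁻¹ := by
              rw [(hC _ (mul_mem (mul_mem (hRF ha) (mul_mem hdF (hRF hb))) (inv_mem (hRF ha)))).eq,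
                mul_inv_cancel_right]
          _ = d * (a * b * a⁻¹) * (d * b)⁻¹ := by
              rw [← mul_assoc a d b, ← (hD a (hRF ha)).eq]; group
          _ = (a * b * a⁻¹) * d * (d * b)⁻¹ := by
              rw [(hD _ (mul_mem (mul_mem (hRF ha) (hRF hb)) (inv_mem (hRF ha)))).eq]
          _ = ⁅a, b⁆ := by
              rw [mul_inv_rev, mul_assoc (a * b * a⁻¹), ← mul_assoc d,
                (hD _ (inv_mem (hRF hb))).eq, mul_inv_cancel_right, commutatorElement_def]
      rw [mem_centralizer_singleton_iff]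
      exact (mul_inv_eq_iff_eq_mul.1 e).symm
    rw [← mem_centralizer_singleton_iff.1 (this hz), mul_inv_cancel_right]
  -- `y` centralises `R`
  have hcent : ∀ v ∈ R, y * v = v * y := by
    intro v hv
    set c := y * v * y⁻¹ * v⁻¹ with hcd
    have hcm : c ∈ ⁅R, R⁆ := hc v hv
    have hit : ∀ k : ℕ, y ^ k * v * (y ^ k)⁻¹ = c ^ k * v := by
      intro k
      induction k with
      | zero => simp
      | succ k ih =>
        calc y ^ (k + 1) * v * (y ^ (k + 1))⁻¹ = y * (y ^ k * v * (y ^ k)⁻¹) * y⁻¹ := by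
              rw [pow_succ']; group
          _ = (y * c ^ k * y⁻¹) * (y * v * y⁻¹) := by rw [ih]; group
          _ = c ^ k * (c * v) := by rw [hfix _ (pow_mem hcm k), hcd]; group
          _ = c ^ (k + 1) * v := by rw [pow_succ, mul_assoc (c ^ k) c v]
    have h0 := hit (orderOf y)
    rw [pow_orderOf_eq_one, one_mul, inv_one, mul_one] at h0
    have hc1 : c ^ orderOf y = 1 := right_eq_mul.1 h0
    obtain ⟨k, hk⟩ := hy.exists_card_eq
    rw [Nat.card_zpowers] at hk
    rw [hk] at hc1
    have h1 := Nat.eq_one_of_dvd_coprimes ((mem_qPrimePart.1 (hR' hcm)).2.pow_right k) dvd_rfl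
      (orderOf_dvd_of_pow_eq_one hc1)
    have h2 : c = 1 := orderOf_eq_one_iff.1 h1
    rwa [hcd, mul_inv_eq_one, mul_inv_eq_iff_eq_mul] at h2
  set S := zpowers y ⊔ pCore q G with hS
  haveI hpn : (pCore q G).Normal := Components.pCore_normal' q
  have hSq : IsPGroup q S := hy.to_sup_of_normal_right (Components.isPGroup_pCore' q)
  set M := F ⊔ zpowers y with hM
  have hOF : pCore q G ≤ F := Components.pCore_le_fittingSubgroup hq.out
  have hSM : S ≤ M := sup_le le_sup_right (hOF.trans le_sup_left)
  have hMn : M.Normal := normal_of_commutator_le (h.commutator_le_fitting.trans le_sup_left)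
  have hMS : M ≤ normalizer (S : Set G) := by
    refine sup_le (fun x hx => ?_) (le_sup_left.trans le_normalizer)
    obtain ⟨u, s, rfl, hu, hs, hsu⟩ := fitting_parts (q := q) hx
    refine mul_mem (le_normalizer (mem_sup_right hu)) ?_
    refine centralizer_le_normalizer _ ?_
    have : S ≤ centralizer ({s} : Set G) := by
      refine sup_le (zpowers_le.2 (mem_centralizer_singleton_iff.2 (hcent s hs))) fun z hz => ?_
      obtain ⟨u', s', rfl, hu', hs', hsu'⟩ := fitting_parts (q := q) (hOF hz)
      have h2 : s' ∈ pCore q G := by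
        simpa using mul_mem (inv_mem hu') hz
      have h3 : s' = 1 := orderOf_eq_one_iff.1 (by
        obtain ⟨k, hk⟩ := (Components.isPGroup_pCore' (G := G) q).exists_card_eq
        exact Nat.eq_one_of_dvd_coprimes ((mem_qPrimePart.1 hs').2.pow_right k) dvd_rfl
          (hk ▸ orderOf_dvd_natCard _ h2))
      subst h3
      rw [mul_one]
      exact mem_centralizer_singleton_iff.2 (hsu' s hs).eq.symm
    exact mem_centralizer_iff.2 fun z hz => mem_centralizer_singleton_iff.1 (this hz)
  have hsub : S.IsSubnormal :=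
    IsSubnormal.step S M hSM hMn.isSubnormal (normal_subgroupOf_of_le_normalizer hMS)
  haveI := hSq.isNilpotent
  exact Components.le_fittingSubgroup_of_isSubnormal hsub (mem_sup_left (mem_zpowers y))

/-- A square-free index of a `q`-subgroup of `Q` in `Q`. -/
theorem relIndex_dvd_of_normal {q : ℕ} [hq : Fact q.Prime] {Q : Subgroup G} (hQ : IsPGroup q Q)
    (T : Subgroup G) [T.Normal] (hT : Squarefree T.index) : T.relIndex Q ∣ q := by
  obtain ⟨k, hk⟩ := hQ.exists_card_eq
  exact dvd_prime_of_squarefree hq.out (k := k) (hk ▸ relIndex_dvd_card T Q)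
    (hT.squarefree_of_dvd (relIndex_dvd_index_of_normal T Q))

theorem SF.relIndex_fitting_dvd (h : SF G) {q : ℕ} [hq : Fact q.Prime] (Q : Sylow q G) :
    (fittingSubgroup G).relIndex (Q : Subgroup G) ∣ q := by
  classical
  set R := qPrimePart q G with hR
  set F := fittingSubgroup G with hF
  haveI := Components.fittingSubgroup_normal G
  have hn' : (⁅R, R⁆).Normal := inferInstance
  set π := QuotientGroup.mk' ⁅R, R⁆ with hπ
  have hπs : Function.Surjective π := QuotientGroup.mk'_surjective _
  -- the elements of `R` map to elements with normal centralisers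
  let T : G → Subgroup G := fun v => (centralizer ({π v} : Set (G ⧸ ⁅R, R⁆))).comap π
  have memT : ∀ {v g : G}, g ∈ T v ↔ π g * π v = π v * π g := fun {v g} => mem_centralizer_singleton_iff
  have hRR : ∀ a ∈ R, ∀ b ∈ R, π a * π b = π b * π a := by
    intro a ha b hb
    rw [← commutatorElement_eq_one_iff_mul_comm, ← map_commutatorElement]
    exact (QuotientGroup.eq_one_iff _).2 (commutator_mem_commutator ha hb)
  have hFT : ∀ v ∈ R, F ≤ T v := by
    intro v hv x hx
    obtain ⟨u, s, rfl, -, hs, hsu⟩ := fitting_parts (q := q) hx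
    rw [memT, map_mul]
    have h1 : Commute (π v) (π u) := (hsu v hv).map π
    have h2 : Commute (π v) (π s) := hRR v hv s hs
    exact (h1.mul_right h2).eq.symm
  have hTn : ∀ v ∈ R, (T v).Normal := fun v hv =>
    normal_of_commutator_le (h.commutator_le_fitting.trans (hFT v hv))
  have hTi : ∀ v ∈ R, (T v).relIndex (Q : Subgroup G) ∣ q := fun v hv => by
    haveI := hTn v hv
    refine relIndex_dvd_of_normal Q.2 _ ?_
    rw [show (T v).index = (centralizer ({π v} : Set (G ⧸ ⁅R, R⁆))).index from
      index_comap_of_surjective _ hπs]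
    exact h.quotient _ (π v)
  -- all proper stabilisers agree
  have heq : ∀ v ∈ R, ∀ w ∈ R, ∀ a ∈ (Q : Subgroup G), ∀ b ∈ (Q : Subgroup G),
      a ∈ T v → a ∉ T w → b ∉ T v → b ∈ T w → False := by
    intro v hv w hw a ha b hb hav haw hbv hbw
    have hvw : v * w ∈ R := mul_mem hv hw
    haveI := hTn _ hvw
    have havw : a ∉ T (v * w) := fun e => haw (by
      rw [memT] at e hav ⊢
      rw [map_mul, ← mul_assoc, hav, mul_assoc, mul_assoc] at e
      exact mul_left_cancel e)
    -- `Q / Q ∩ T (vw)` is generated by `a`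
    set U := (T (v * w)).subgroupOf (Q : Subgroup G) with hU
    have hUi : U.index = q := ((Nat.dvd_prime hq.out).1 (hTi _ hvw)).resolve_left fun e =>
      havw ((relIndex_eq_one.1 e) ha)
    let μ := QuotientGroup.mk' U
    have hcard : Nat.card ((Q : Subgroup G) ⧸ U) = q := hUi
    haveI : IsCyclic ((Q : Subgroup G) ⧸ U) := isCyclic_of_prime_card hcard
    have ha1 : μ ⟨a, ha⟩ ≠ 1 := fun e => havw (mem_subgroupOf.1 ((QuotientGroup.eq_one_iff _).1 e))
    obtain ⟨j, hj⟩ := mem_zpowers_iff.1 (mem_zpowers_of_prime_card hcard ha1 (g' := μ ⟨b, hb⟩))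
    have hcU : a ^ (-j) * b ∈ T (v * w) := by
      have : μ (⟨a, ha⟩ ^ (-j) * ⟨b, hb⟩) = 1 := by
        rw [map_mul, map_zpow, zpow_neg, hj, inv_mul_cancel]
      simpa [hU, mem_subgroupOf] using (QuotientGroup.eq_one_iff (N := U) _).1 this
    rw [memT] at hcU hav hbw
    simp only [map_mul, map_zpow] at hcU
    set A := π a
    set B := π b
    set V := π v with hV
    set W := π w with hW
    have hAV : Commute A V := hav
    have hBW : Commute B W := hbw
    set Y := B * V * B⁻¹ * V⁻¹ with hY
    -- `a` fixes `Y`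
    have hAY : Commute A Y := by
      have hk : ⁅B⁻¹, A⁆ ∈ (T v).map π := by
        refine ⟨⁅b⁻¹, a⁆, h.commutator_le_fitting.trans (hFT v hv) (by
          rw [commutator_def]; exact commutator_mem_commutator trivial trivial), ?_⟩
        rw [map_commutatorElement, map_inv]
      obtain ⟨g, hg, hgk⟩ := hk
      have hkV : Commute ⁅B⁻¹, A⁆ V := hgk ▸ memT.1 hg
      have h1 : Commute (B⁻¹ * A * B) V := by
        have := hkV.mul_left hAV
        rwa [show ⁅B⁻¹, A⁆ * A = B⁻¹ * A * B by simp only [commutatorElement_def]; group] at this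
      have h2 : Commute A (B * V * B⁻¹) := by
        have := h1.map (MulAut.conj B)
        simp only [MulAut.conj_apply] at this
        rwa [show B * (B⁻¹ * A * B) * B⁻¹ = A by group] at this
      exact h2.mul_right hAV.inv_right
    set Aj := A ^ (-j) with hAj
    have hAjV : Commute Aj V := hAV.zpow_left _
    have hAjY : Commute Aj Y := hAY.zpow_left _
    have hW1 : Aj * W * Aj⁻¹ = Y⁻¹ * W := by
      have e : Aj * (Y * V) * W * Aj⁻¹ = V * W := by
        calc Aj * (Y * V) * W * Aj⁻¹ = Aj * (B * V * B⁻¹) * (B * W * B⁻¹) * Aj⁻¹ := by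
              rw [hBW.eq, hY]; group
          _ = (Aj * B) * (V * W) * (Aj * B)⁻¹ := by group
          _ = V * W := by rw [hcU, mul_inv_cancel_right]
      have hYV : Commute Y V := by
        have hYR : Y = π (b * v * b⁻¹ * v⁻¹) := by simp [hY, B, V]
        rw [hYR]
        exact hRR _ (mul_mem ((inferInstance : R.Normal).conj_mem _ hv b) (inv_mem hv)) _ hv
      calc Aj * W * Aj⁻¹ = (Y * V)⁻¹ * (Aj * (Y * V) * Aj⁻¹) * (Aj * W * Aj⁻¹) := by
            rw [(hAjY.mul_right hAjV).eq, mul_inv_cancel_right, inv_mul_cancel, one_mul]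
        _ = (Y * V)⁻¹ * (Aj * (Y * V) * W * Aj⁻¹) := by group
        _ = Y⁻¹ * W := by rw [e, hYV.eq]; group
    have hit : ∀ k : ℕ, Aj ^ k * W * (Aj ^ k)⁻¹ = (Y⁻¹) ^ k * W := by
      intro k
      induction k with
      | zero => simp
      | succ k ih =>
        calc Aj ^ (k + 1) * W * (Aj ^ (k + 1))⁻¹ = Aj * (Aj ^ k * W * (Aj ^ k)⁻¹) * Aj⁻¹ := by
              rw [pow_succ']; group
          _ = (Aj * Y⁻¹ ^ k * Aj⁻¹) * (Aj * W * Aj⁻¹) := by rw [ih]; group
          _ = Y⁻¹ ^ k * (Y⁻¹ * W) := by
              rw [((hAjY.inv_right).pow_right k).eq, mul_inv_cancel_right, hW1]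
          _ = Y⁻¹ ^ (k + 1) * W := by rw [pow_succ, mul_assoc (Y⁻¹ ^ k) Y⁻¹ W]
    obtain ⟨k, hk⟩ := Q.2 ⟨a, ha⟩
    have hk' : a ^ q ^ k = 1 := congrArg Subtype.val hk
    have hAk : Aj ^ q ^ k = 1 := by
      rw [hAj, ← zpow_natCast, ← zpow_mul, mul_comm, zpow_mul, zpow_natCast, ← map_pow, hk',
        map_one, one_zpow]
    have h1 := hit (q ^ k)
    rw [hAk, one_mul, inv_one, mul_one] at h1
    have h2 : orderOf Y ∣ q ^ k := by
      rw [← orderOf_inv]
      exact orderOf_dvd_of_pow_eq_one (right_eq_mul.1 h1)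
    have hyR : b * v * b⁻¹ * v⁻¹ ∈ R :=
      mul_mem ((inferInstance : R.Normal).conj_mem _ hv b) (inv_mem hv)
    have h3 : orderOf Y ∣ orderOf (b * v * b⁻¹ * v⁻¹) := by
      have := orderOf_map_dvd π (b * v * b⁻¹ * v⁻¹)
      rwa [show π (b * v * b⁻¹ * v⁻¹) = Y by simp [hY, B, V]] at this
    have h4 : Y = 1 := orderOf_eq_one_iff.1 (Nat.eq_one_of_dvd_coprimes
      ((mem_qPrimePart.1 hyR).2.pow_right k) h3 h2)
    rw [hY, mul_inv_eq_one, mul_inv_eq_iff_eq_mul] at h4
    exact hbv (memT.2 h4)
  have hdone : ∀ y ∈ (Q : Subgroup G), (∀ v ∈ R, y ∈ T v) → y ∈ F := by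
    intro y hy hyT
    refine h.mem_fitting (q := q) (Q.2.to_le (zpowers_le.2 hy)) fun v hv => ?_
    rw [← QuotientGroup.eq_one_iff]
    show π (y * v * y⁻¹ * v⁻¹) = 1
    simp only [map_mul, map_inv]
    rw [memT.1 (hyT v hv)]
    group
  by_cases hall : ∀ v ∈ R, (Q : Subgroup G) ≤ T v
  · rw [relIndex_eq_one.2 fun y hy => hdone y hy fun v hv => hall v hv hy]
    exact one_dvd q
  push Not at hall
  obtain ⟨v, hv, hvQ⟩ := hall
  haveI := hTn v hv
  refine dvd_trans (relIndex_dvd_of_le_left' fun y hy => ?_) (hTi v hv)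
  rw [mem_inf] at hy
  refine hdone y hy.2 fun w hw => ?_
  by_contra hyw
  -- another element
  obtain ⟨b, hb, hbv⟩ := SetLike.not_le_iff_exists.1 hvQ
  by_cases hbw : b ∈ T w
  · exact heq v hv w hw y hy.2 b hb hy.1 hyw hbv hbw
  · -- `y * b` moves `v`; if it moved `w` for every choice the two stabilisers would have index one
    haveI := hTn w hw
    set U := (T w).subgroupOf (Q : Subgroup G) with hU
    have hUi : U.index = q := ((Nat.dvd_prime hq.out).1 (hTi w hw)).resolve_left fun e =>
      hyw ((relIndex_eq_one.1 e) hy.2)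
    let μ := QuotientGroup.mk' U
    have hcard : Nat.card ((Q : Subgroup G) ⧸ U) = q := hUi
    haveI : IsCyclic ((Q : Subgroup G) ⧸ U) := isCyclic_of_prime_card hcard
    have hy1 : μ ⟨y, hy.2⟩ ≠ 1 := fun e => hyw (mem_subgroupOf.1 ((QuotientGroup.eq_one_iff _).1 e))
    obtain ⟨j, hj⟩ := mem_zpowers_iff.1 (mem_zpowers_of_prime_card hcard hy1 (g' := μ ⟨b, hb⟩))
    have hcU : y ^ (-j) * b ∈ T w := by
      have : μ (⟨y, hy.2⟩ ^ (-j) * ⟨b, hb⟩) = 1 := by
        rw [map_mul, map_zpow, zpow_neg, hj, inv_mul_cancel]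
      simpa [hU, mem_subgroupOf] using (QuotientGroup.eq_one_iff (N := U) _).1 this
    refine heq v hv w hw y hy.2 _ (mul_mem (zpow_mem hy.2 _) hb) hy.1 hyw (fun e => hbv ?_) hcU
    simpa using mul_mem (inv_mem (zpow_mem hy.1 (-j))) e
where
  relIndex_dvd_of_le_left' {A B C : Subgroup G} (h : A ⊓ C ≤ B) : B.relIndex C ∣ A.relIndex C := by
    rw [← inf_relIndex_right A C, ← inf_relIndex_right B C]
    exact relIndex_dvd_of_le_left C (le_inf h inf_le_right)

/-- The index of the Fitting subgroup is square-free. -/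
theorem SF.squarefree_index_fitting (h : SF G) : Squarefree (fittingSubgroup G).index := by
  haveI := Components.fittingSubgroup_normal G
  rw [Nat.squarefree_iff_prime_squarefree]
  intro q hq hd
  haveI := Fact.mk hq
  obtain ⟨Q⟩ := (inferInstance : Nonempty (Sylow q G))
  set F := fittingSubgroup G
  have e := relIndex_mul_index (le_sup_left : F ≤ F ⊔ (Q : Subgroup G))
  rw [sup_comm, relIndex_sup_right] at e
  have hco : Nat.Coprime (q * q) ((Q : Subgroup G) ⊔ F).index := by
    have := ((Nat.Prime.coprime_iff_not_dvd hq).2 Q.not_dvd_index).coprime_dvd_right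
      (index_dvd_of_le (le_sup_left : (Q : Subgroup G) ≤ (Q : Subgroup G) ⊔ F))
    exact this.mul_left this
  have h1 : q * q ∣ q := (hco.dvd_of_dvd_mul_right (e ▸ hd)).trans (h.relIndex_fitting_dvd Q)
  have := Nat.le_of_dvd hq.pos h1
  have h3 : q * 1 < q * q := Nat.mul_lt_mul_of_pos_left hq.one_lt hq.pos
  omega

theorem isCyclic_of_squarefree_nilpotent [Group.IsNilpotent G] (h : Squarefree (Nat.card G)) :
    IsCyclic G := by
  haveI := IsZGroup.of_squarefree h
  infer_instance

theorem SF.isCyclic_quotient_fitting (h : SF G) [(fittingSubgroup G).Normal] :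
    IsCyclic (G ⧸ fittingSubgroup G) := by
  haveI : Group.IsNilpotent (G ⧸ fittingSubgroup G) := by
    letI : CommGroup (G ⧸ fittingSubgroup G) :=
      { (inferInstance : Group (G ⧸ fittingSubgroup G)) with
        mul_comm := by
          intro a b
          induction a using QuotientGroup.induction_on with | _ a =>
          induction b using QuotientGroup.induction_on with | _ b =>
          rw [← QuotientGroup.mk_mul, ← QuotientGroup.mk_mul, QuotientGroup.eq]
          have := h.commutator_le_fitting (show ⁅b⁻¹, a⁻¹⁆ ∈ commutator G by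
            rw [commutator_def]; exact commutator_mem_commutator trivial trivial)
          simpa [commutatorElement_def, mul_assoc] using this }
    infer_instance
  exact isCyclic_of_squarefree_nilpotent (by rw [← index_eq_card]; exact h.squarefree_index_fitting)

/-- The key case: `G = R⟨t⟩` with `R` a normal `r`-subgroup. -/
theorem SF.card_commutator_dvd_of_cyclic_quotient (h : SF G) {r : ℕ} [hr : Fact r.Prime]
    (R : Subgroup G) [R.Normal] (hR : IsPGroup r R) {t : G} (htop : R ⊔ zpowers t = ⊤) :
    Nat.card ↥(commutator G) ∣ r := by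
  haveI : (⁅R, R⁆).Normal := inferInstance
  set π := QuotientGroup.mk' ⁅R, R⁆ with hπ
  have hπs : Function.Surjective π := QuotientGroup.mk'_surjective _
  set N := R.map π with hN
  haveI : N.Normal := Normal.map inferInstance π hπs
  have hab : ∀ a ∈ N, ∀ b ∈ N, a * b = b * a := by
    rintro _ ⟨a, ha, rfl⟩ _ ⟨b, hb, rfl⟩
    rw [← commutatorElement_eq_one_iff_mul_comm, ← map_commutatorElement]
    exact (QuotientGroup.eq_one_iff _).2 (commutator_mem_commutator ha hb)
  have htop' : N ⊔ zpowers (π t) = ⊤ := by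
    rw [hN, ← MonoidHom.map_zpowers, ← Subgroup.map_sup, htop, map_top_of_surjective _ hπs]
  have hle := commutator_le_range (hab := hab) htop'
  have hrng : Nat.card (bracketHom N hab (π t)).range ∣ r :=
    card_range_dvd (hab := hab) (h.quotient _) (hR.map π) (π t)
  have hR' : Nat.card ↥⁅R, R⁆ ∣ r := by
    rw [← map_subtype_commutator, card_map_of_injective R.subtype_injective]
    exact (h.of_normal R).card_commutator_dvd hR
  have hRG : ⁅R, R⁆ ≤ commutator G := by
    rw [commutator_def]; exact commutator_mono le_top le_top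
  have hmapc : (commutator G).map π = commutator (G ⧸ ⁅R, R⁆) := by
    rw [commutator_def, commutator_def, map_commutator, map_top_of_surjective _ hπs]
  have hcard : Nat.card ↥(commutator G) = Nat.card ↥⁅R, R⁆ * Nat.card ↥(commutator (G ⧸ ⁅R, R⁆)) := by
    rw [← hmapc, ← card_mul_index ((⁅R, R⁆).subgroupOf (commutator G)),
      show Nat.card ((⁅R, R⁆).subgroupOf (commutator G)) = Nat.card ↥⁅R, R⁆ from
        Nat.card_congr (subgroupOfEquivOfLe hRG).toEquiv]
    congr 1
    have h2 := index_ker (π.comp (commutator G).subtype)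
    rw [← MonoidHom.comap_ker, QuotientGroup.ker_mk', MonoidHom.range_comp, range_subtype] at h2
    exact h2
  have hq : Nat.card ↥(commutator (G ⧸ ⁅R, R⁆)) ∣ r := (card_dvd_of_le hle).trans hrng
  rcases (Nat.dvd_prime hr.out).1 hR' with e | e
  · rw [hcard, e, one_mul]; exact hq
  rcases (Nat.dvd_prime hr.out).1 hq with e' | e'
  · rw [hcard, e', mul_one]; exact hR'
  exfalso
  have hrng' : Nat.card (bracketHom N hab (π t)).range = r := by
    refine ((Nat.dvd_prime hr.out).1 hrng).resolve_left fun e1 => ?_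
    have := card_dvd_of_le hle
    rw [e', e1, Nat.dvd_one] at this
    exact hr.out.ne_one this
  let φ : R →* G ⧸ ⁅R, R⁆ := (bracketHom N hab (π t)).comp (π.subgroupMap R)
  have hφ : ∀ v : R, φ v = π (t * v * t⁻¹ * (v : G)⁻¹) := fun v => by
    simp only [φ, MonoidHom.comp_apply, bracketHom_apply, map_mul, map_inv]
    rfl
  have hφi : φ.ker.index = r := by
    rw [index_ker, MonoidHom.range_comp,
      MonoidHom.range_eq_top.2 (π.subgroupMap_surjective R), ← MonoidHom.range_eq_map, hrng']
  -- every element of `t R` centralises the kernel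
  have hK : ∀ c ∈ R, ∀ v : R, φ v = 1 → t * c * v = v * (t * c) := by
    intro c hc v hv
    have hCle : (centralizer ({t * c} : Set G)).subgroupOf R ≤ φ.ker := by
      intro w hw
      rw [mem_subgroupOf, mem_centralizer_singleton_iff] at hw
      rw [MonoidHom.mem_ker, hφ]
      have hcw : π c * π w = π w * π c :=
        hab _ (mem_map_of_mem π hc) _ (mem_map_of_mem π w.2)
      have e1 : π (t * c) * π w = π w * π (t * c) := by rw [← map_mul, ← map_mul, hw]
      rw [map_mul, mul_assoc, hcw, ← mul_assoc, ← mul_assoc] at e1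
      have e2 := mul_right_cancel e1
      rw [map_mul, map_mul, map_mul, map_inv, map_inv, e2, mul_inv_cancel_right, mul_inv_cancel]
    have h1 := relIndex_mul_index hCle
    have h2 : (centralizer ({t * c} : Set G)).relIndex R ∣ r := h.relIndex_dvd R hR _
    rw [relIndex] at h2
    rw [hφi] at h1
    have h3 : ((centralizer ({t * c} : Set G)).subgroupOf R).relIndex φ.ker = 1 := by
      rw [← h1] at h2
      have := Nat.le_of_dvd hr.out.pos h2
      have hpos : 0 < ((centralizer ({t * c} : Set G)).subgroupOf R).relIndex φ.ker :=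
        Nat.pos_of_ne_zero index_ne_zero_of_finite
      nlinarith [hr.out.pos]
    have := mem_subgroupOf.1 (relIndex_eq_one.1 h3 (MonoidHom.mem_ker.2 hv))
    exact (mem_centralizer_singleton_iff.1 this).symm
  have hker : φ.rangeRestrict.ker ≤ center R := by
    rw [MonoidHom.ker_rangeRestrict]
    intro v hv
    rw [mem_center_iff]
    rintro ⟨c, hc⟩
    have h1 := hK c hc v hv
    have h2 := hK 1 (one_mem R) v hv
    rw [mul_one] at h2
    rw [← mul_assoc, ← h2, mul_assoc, mul_assoc] at h1
    exact Subtype.ext (mul_left_cancel h1)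
  haveI : IsCyclic φ.range := isCyclic_of_prime_card (p := r) (by rw [← index_ker, hφi])
  have hcomm : ⁅R, R⁆ = ⊥ := by
    rw [eq_bot_iff, commutator_le]
    intro a ha b hb
    rw [mem_bot, commutatorElement_eq_one_iff_mul_comm]
    exact congrArg Subtype.val
      ((φ.rangeRestrict.isMulCommutative_of_isCyclic_of_ker_le_center hker).is_comm.comm ⟨a, ha⟩ ⟨b, hb⟩)
  rw [hcomm, card_bot] at e
  exact hr.out.ne_one e.symm

theorem SF.exists_generator (h : SF G) : ∃ t : G, fittingSubgroup G ⊔ zpowers t = ⊤ := by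
  haveI := Components.fittingSubgroup_normal G
  obtain ⟨c, hc⟩ := h.isCyclic_quotient_fitting.exists_generator
  obtain ⟨t, rfl⟩ := QuotientGroup.mk'_surjective _ c
  refine ⟨t, eq_top_iff.2 fun x _ => ?_⟩
  obtain ⟨i, hi⟩ := mem_zpowers_iff.1 (hc (QuotientGroup.mk' _ x))
  rw [← map_zpow, QuotientGroup.mk'_apply, QuotientGroup.mk'_apply, QuotientGroup.eq] at hi
  have := mul_mem (mem_sup_right (zpow_mem (mem_zpowers t) i) : t ^ i ∈ fittingSubgroup G ⊔ zpowers t)
    (mem_sup_left hi)
  simpa using this

/-- The derived subgroup has square-free order. -/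
theorem SF.squarefree_card_commutator (h : SF G) : Squarefree (Nat.card ↥(commutator G)) := by
  obtain ⟨t, ht⟩ := h.exists_generator
  haveI := Components.fittingSubgroup_normal G
  rw [Nat.squarefree_iff_prime_squarefree]
  intro r hr hd
  haveI := Fact.mk hr
  set K := qPrimePart r G
  set π := QuotientGroup.mk' K with hπ
  have hπs : Function.Surjective π := QuotientGroup.mk'_surjective _
  haveI : ((fittingSubgroup G).map π).Normal := Normal.map inferInstance π hπs
  have hFp : IsPGroup r ((fittingSubgroup G).map π) := by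
    rintro ⟨_, x, hx, rfl⟩
    obtain ⟨u, s, rfl, hu, hs, -⟩ := fitting_parts (q := r) hx
    obtain ⟨k, hk⟩ := Components.isPGroup_pCore' (G := G) r ⟨u, hu⟩
    refine ⟨k, Subtype.ext ?_⟩
    have hs1 : π s = 1 := (QuotientGroup.eq_one_iff _).2 hs
    have hk' : u ^ r ^ k = 1 := congrArg Subtype.val hk
    show (π (u * s)) ^ r ^ k = 1
    rw [map_mul, hs1, mul_one, ← map_pow, hk', map_one]
  have htop : (fittingSubgroup G).map π ⊔ zpowers (π t) = ⊤ := by
    rw [← MonoidHom.map_zpowers, ← Subgroup.map_sup, ht, map_top_of_surjective _ hπs]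
  have hbar : Nat.card ↥(commutator (G ⧸ K)) ∣ r :=
    (h.quotient K).card_commutator_dvd_of_cyclic_quotient _ hFp htop
  have hmap : (commutator G).map π = commutator (G ⧸ K) := by
    rw [commutator_def, commutator_def, map_commutator, map_top_of_surjective _ hπs]
  have hk2 := index_ker (π.comp (commutator G).subtype)
  rw [← MonoidHom.comap_ker, QuotientGroup.ker_mk', MonoidHom.range_comp, range_subtype, hmap] at hk2
  have hc := card_mul_index (K.subgroupOf (commutator G))
  rw [show (K.subgroupOf (commutator G)).index = _ from hk2] at hc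
  have hco : Nat.Coprime r (Nat.card (K.subgroupOf (commutator G))) := by
    rw [Nat.Prime.coprime_iff_not_dvd hr]
    intro hdr
    obtain ⟨x, hx⟩ := exists_prime_orderOf_dvd_card' r hdr
    have h2 := (mem_qPrimePart.1 (mem_subgroupOf.1 x.2)).2
    rw [orderOf_coe, orderOf_coe, hx, Nat.coprime_self] at h2
    exact hr.ne_one h2
  have h1 : r * r ∣ r := ((hco.mul_left hco).dvd_of_dvd_mul_left (hc ▸ hd)).trans hbar
  have := Nat.le_of_dvd hr.pos h1
  have h3 : r * 1 < r * r := Nat.mul_lt_mul_of_pos_left hr.one_lt hr.pos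
  omega

theorem SF.isCyclic_commutator (h : SF G) : IsCyclic ↥(commutator G) := by
  haveI := Cfsg.Agent.S0526.result h.isSupersolvable
  exact isCyclic_of_squarefree_nilpotent h.squarefree_card_commutator

theorem SF.commutator_commutator_eq_bot (h : SF G) : commutator ↥(commutator G) = ⊥ := by
  haveI := h.isCyclic_commutator
  letI : CommGroup ↥(commutator G) := IsCyclic.commGroup
  refine eq_bot_iff.2 ?_
  show (⁅(⊤ : Subgroup ↥(commutator G)), ⊤⁆ : Subgroup ↥(commutator G)) ≤ ⊥
  rw [commutator_le]
  intro a _ b _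
  rw [mem_bot, commutatorElement_eq_one_iff_mul_comm]
  exact mul_comm a b

end Cfsg.Agent.ClassSize.SquareFree
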